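import Cfsg.Agent.Lib.Fus.PSUFourTwo
import Cfsg.Agent.S0280
import Cfsg.Agent.S0283
import Cfsg.Agent.S0815
import Mathlib.FieldTheory.Finite.GaloisField

/-!
The simple group of order 25920 as a group of permutations of forty points.
-/

set_option autoImplicit false
set_option maxRecDepth 100000
set_option maxHeartbeats 1000000

namespace Cfsg.Agent.Spor.Cos.Fi22Aut

open Matrix Cfsg
open Cfsg.Agent.Fus Cfsg.Agent.Fus.PSUFourTwo
open Cfsg.Agent.Classical Cfsg.Agent.Classical.PSUAut

theorem pPt_cube : ∀ i j, pPt i (pPt i (pPt i j)) = j := by decide +kernel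

/-- A generator of the simple group. -/
def pP (i : Fin 40) : Equiv.Perm (Fin 40) :=
  ⟨pPt i, fun j => pPt i (pPt i j), fun j => pPt_cube i j, fun j => pPt_cube i j⟩

theorem pP_apply (i j : Fin 40) : pP i j = pPt i j := rfl

/-- The simple group on forty points. -/
def P40 : Subgroup (Equiv.Perm (Fin 40)) := Subgroup.closure (Set.range pP)

theorem pP_mem (i : Fin 40) : pP i ∈ P40 := Subgroup.subset_closure ⟨i, rfl⟩

theorem nonempty_psu_equiv {F : Type*} [Field F] [Fintype F] (hF : Fintype.card F = 4) :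
    Nonempty (PSU 4 F 2 ≃* P40) := by
  classical
  have hF' : Fintype.card F = 2 ^ 2 := hF
  obtain ⟨w, h2, hw, hw0, hw1, hbij⟩ := exists_omega hF
  -- the unitary side
  let u : Fin 40 → Fin 4 → F := fun i l => dec w (uPt i l)
  have hu : ∀ i, hermForm 4 F 2 (u i) (u i) = 1 := fun i => by
    rw [hermForm_dec h2 hw, herm_uPt]; rfl
  have huex : ∀ v, hermForm 4 F 2 v v = 1 → ∃ i, ∃ c : F, c ≠ 0 ∧ v = c • u i := by
    intro v hv
    choose c hc using fun l => hbij.2 (v l)
    have hc' : v = fun l => dec w (![c 0, c 1, c 2, c 3] l) :=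
      funext fun l => by fin_cases l <;> exact (hc _).symm
    rw [hc', hermForm_dec h2 hw] at hv
    obtain ⟨i, k, hk, hik⟩ := exists_uPt _ _ _ _ (hbij.1 (hv.trans (show (1 : F) = dec w 1 from rfl)))
    refine ⟨i, dec w k, fun h0 => hk ((dec_eq_zero hw0 hw1).1 h0), ?_⟩
    rw [hc']
    funext l
    rw [Pi.smul_apply, smul_eq_mul, hik, dec_mul h2 hw]
  have huniq : ∀ i j, ∀ c : F, u j = c • u i → j = i := fun i j c hc => by
    obtain ⟨k, rfl⟩ := hbij.2 c
    refine unique_uPt i j k fun l => hbij.1 ?_
    rw [dec_mul h2 hw]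
    exact congrFun hc l
  let MU : SU 4 F 2 →* Matrix (Fin 4) (Fin 4) F := (slToMat 4 F).comp (SU 4 F 2).subtype
  obtain ⟨fU, hfU⟩ := exists_perm_hom MU u (fun v => hermForm 4 F 2 v v = 1)
    (fun g v hv => (su_form g v v).trans hv) hu huex huniq
  choose R hR using fun i => exists_refl hF' w h2 hw (u i) (hu i)
  have hRperm : ∀ i j, fU (R i) j = pPt i j := fun i j => by
    obtain ⟨k, -, hk⟩ := refl_uPt i j
    refine perm_eq MU u huniq hfU (d := dec w k) ?_
    show suVal (R i) *ᵥ u j = _
    rw [hR, rMat_mulVec, hermForm_dec h2 hw]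
    funext l
    have := congrArg (dec w) (hk l)
    simp only [dec_mul h2 hw, dec_add h2] at this
    simp only [Pi.smul_apply, Pi.add_apply, smul_eq_mul]
    rw [show w * w = dec w 3 from hw]
    exact this
  -- generation of the unitary group
  have hgenU : Subgroup.closure (Set.range R) = ⊤ := by
    have hnorm : (Subgroup.closure (Set.range R)).Normal := by
      refine ⟨fun x hx g => ?_⟩
      have := Subgroup.mem_map_of_mem (MulAut.conj g).toMonoidHom hx
      rw [MonoidHom.map_closure] at this
      refine (Subgroup.closure_le _).2 ?_ this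
      rintro _ ⟨_, ⟨i, rfl⟩, rfl⟩
      obtain ⟨j, c, hc, hj⟩ := huex (suVal g *ᵥ u i) ((su_form g _ _).trans (hu i))
      have hcc : c * qFrob hF' c = 1 := by
        have h1 := hu j
        have h3 := (su_form g (u i) (u i)).trans (hu i)
        rw [hj, h_smul_left, h_smul_right hF', h1, mul_one] at h3
        exact h3
      have hconj : g * R i = R j * g := Cfsg.Agent.Fus.UnitN.su_ext fun x => by
        rw [Cfsg.Agent.Fus.UnitN.mulVec_mul, Cfsg.Agent.Fus.UnitN.mulVec_mul, hR, hR, rMat_mulVec, rMat_mulVec, Matrix.mulVec_smul,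
          Matrix.mulVec_add, Matrix.mulVec_smul, hj, ← su_form g x (u i), hj, h_smul_right hF', smul_smul]
        congr 2
        congr 1
        linear_combination (w * w * hermForm 4 F 2 (suVal g *ᵥ x) (u j)) * hcc
      show g * R i * g⁻¹ ∈ _
      rw [hconj, mul_inv_cancel_right]
      exact Subgroup.subset_closure ⟨j, rfl⟩
    refine Cfsg.Agent.Fus.UnitTv.eq_top_of_not_central (q := 2) hF' (by norm_num) (by norm_num) hnorm fun hle => ?_
    have hc := hle (Subgroup.subset_closure (Set.mem_range_self (f := R) 0))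
    obtain ⟨c, hc⟩ := suVal_scalar_of_mem_center hF' hc
    -- all points would be fixed
    obtain ⟨j, hj⟩ : ∃ j, pPt 0 j ≠ j := by decide +kernel
    refine hj ((hRperm 0 j).symm.trans (perm_eq MU u huniq hfU (d := c) ?_))
    show suVal (R 0) *ᵥ u j = _
    rw [hc, Matrix.scalar_apply, ← Matrix.smul_one_eq_diagonal, Matrix.smul_mulVec, Matrix.one_mulVec]
  have hkerU : fU.ker = Subgroup.center (SU 4 F 2) := by
    refine le_antisymm (fun g hg => ?_) (fun g hg => ?_)
    · -- commutes with all generators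
      have hfix : ∀ i, ∃ c : F, c * qFrob hF' c = 1 ∧ suVal g *ᵥ u i = c • u i := fun i => by
        obtain ⟨c, hc, hci⟩ := hfU g i
        rw [hg, Equiv.Perm.one_apply] at hci
        refine ⟨c, ?_, hci⟩
        have h3 := (su_form g (u i) (u i)).trans (hu i)
        rw [show suVal g *ᵥ u i = c • u i from hci, h_smul_left, h_smul_right hF', hu, mul_one] at h3
        exact h3
      have hall : Subgroup.centralizer ({g} : Set (SU 4 F 2)) = ⊤ := top_le_iff.1 <| by
        rw [← hgenU, Subgroup.closure_le]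
        rintro _ ⟨i, rfl⟩
        refine Subgroup.mem_centralizer_singleton_iff.2 (Cfsg.Agent.Fus.UnitN.su_ext fun x => ?_)
        obtain ⟨c, hcc, hci⟩ := hfix i
        rw [Cfsg.Agent.Fus.UnitN.mulVec_mul, Cfsg.Agent.Fus.UnitN.mulVec_mul, hR, rMat_mulVec, rMat_mulVec, Matrix.mulVec_smul,
          Matrix.mulVec_add, Matrix.mulVec_smul, hci, ← su_form g x (u i), hci, h_smul_right hF', smul_smul]
        congr 2
        congr 1
        linear_combination (-(w * w * hermForm 4 F 2 (suVal g *ᵥ x) (u i))) * hcc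
      exact Subgroup.mem_center_iff.2 fun x =>
        Subgroup.mem_centralizer_singleton_iff.1 (hall ▸ Subgroup.mem_top x)
    · obtain ⟨c, hc⟩ := suVal_scalar_of_mem_center hF' hg
      refine MonoidHom.mem_ker.2 (Equiv.ext fun i => perm_eq MU u huniq hfU (d := c) ?_)
      show suVal g *ᵥ u i = _
      rw [hc, Matrix.scalar_apply, ← Matrix.smul_one_eq_diagonal, Matrix.smul_mulVec, Matrix.one_mulVec]
      rfl
  have hrange : fU.range = P40 := by
    rw [MonoidHom.range_eq_map, ← hgenU, MonoidHom.map_closure, ← Set.range_comp, P40]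
    congr 2
    funext i
    exact Equiv.ext (hRperm i)
  exact ⟨((QuotientGroup.quotientMulEquivOfEq hkerU.symm).trans (QuotientGroup.quotientKerEquivRange fU)).trans
    (MulEquiv.subgroupCongr hrange)⟩

/-- The field with four elements. -/
abbrev F4 : Type := GaloisField 2 2

noncomputable local instance : Fintype F4 := Fintype.ofFinite F4

theorem card_F4 : Fintype.card F4 = 4 := by
  rw [← Nat.card_eq_fintype_card, GaloisField.card 2 2 (by norm_num)]; rfl

theorem card_psu {F : Type*} [Field F] [Fintype F] (hF : Fintype.card F = 4) : Nat.card (PSU 4 F 2) = 25920 := by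
  have h1 := Cfsg.Agent.S0280.result (q := 2) (show Fintype.card F = 2 ^ 2 from hF) 4 (by norm_num)
  norm_num [Finset.prod_range_succ, Nat.even_iff] at h1
  omega

theorem card_P40 : Nat.card P40 = 25920 := by
  obtain ⟨e⟩ := nonempty_psu_equiv card_F4
  rw [← Nat.card_congr e.toEquiv, card_psu card_F4]

theorem simple_P40 : IsSimpleGroup P40 := by
  obtain ⟨e⟩ := nonempty_psu_equiv card_F4
  have := Cfsg.Agent.S0283.result (q := 2) (show Fintype.card F4 = 2 ^ 2 from card_F4) 4 (by norm_num) (by norm_num)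
  exact e.isSimpleGroup_congr.1 this

theorem card_aut_P40 : Nat.card (MulAut P40) = 51840 := by
  obtain ⟨e⟩ := nonempty_psu_equiv card_F4
  rw [← Nat.card_congr (MulAut.congr e).toEquiv, Cfsg.Agent.S0815.result 2 1 le_rfl (q := 2) (by norm_num)
    (show Fintype.card F4 = 2 ^ 2 from card_F4) 4 (by norm_num) (by norm_num), card_psu card_F4]
  norm_num

theorem separated : ∀ i j, i ≠ j → ∃ k, pPt k i = i ∧ pPt k j ≠ j := by decide +kernel

theorem eq_one_of_comm {σ : Equiv.Perm (Fin 40)} (h : ∀ k, σ * pP k = pP k * σ) : σ = 1 := by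
  refine Equiv.ext fun i => ?_
  by_contra hne
  obtain ⟨k, hk, hk'⟩ := separated i (σ i) (fun e => hne e.symm)
  refine hk' ?_
  have := congrArg (fun τ : Equiv.Perm (Fin 40) => τ i) (h k)
  simp only [Equiv.Perm.mul_apply, pP_apply, hk] at this
  exact this.symm

end Cfsg.Agent.Spor.Cos.Fi22Aut
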