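import Cfsg.Agent.Lib.Spor.Cos.Fi22Aut.Tools
import Cfsg.Agent.Lib.Spor.Cos.Fi22.Unit

/-!
The pair of the product of two commuting transpositions, and an upper bound for its centraliser.
-/

set_option autoImplicit false
set_option maxRecDepth 100000
set_option maxHeartbeats 1000000

namespace Cfsg.Agent.Spor.Cos.Fi22Aut

open Cfsg.Agent.Spor.Cos.Fi22 (actB homB piB baseB g g_gen g_sq)
open Cfsg.Agent.Fus.Transp Cfsg.Agent.Fus.Fi22Out

/-- The transposition of a point. -/
noncomputable def TX (p : Fin actX.N) : Cfsg.Spor.Fi22 := setup.T p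

/-- The inner action. -/
noncomputable def piX : Cfsg.Spor.Fi22 →* Equiv.Perm (Fin actX.N) := pX.comp MulAut.conj

theorem TX_pX (φ : MulAut Cfsg.Spor.Fi22) (p : Fin actX.N) : TX (pX φ p) = φ (TX p) := T_pA φ p

theorem TX_piX (y : Cfsg.Spor.Fi22) (p : Fin actX.N) : TX (piX y p) = y * TX p * y⁻¹ :=
  (TX_pX _ p).trans (MulAut.conj_apply y _)

theorem TX_inj {p r : Fin actX.N} (h : TX p = TX r) : p = r := setup.T_inj h

theorem conj_inj {x y : Cfsg.Spor.Fi22} (h : MulAut.conj x = MulAut.conj y) : x = y := by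
  have h1 : ∀ z, (y⁻¹ * x) * z = z * (y⁻¹ * x) := fun z => by
    have := congrArg (fun φ : MulAut Cfsg.Spor.Fi22 => φ z) h
    simp only [MulAut.conj_apply] at this
    calc y⁻¹ * x * z = y⁻¹ * (x * z * x⁻¹) * x := by group
      _ = y⁻¹ * (y * z * y⁻¹) * x := by rw [this]
      _ = z * (y⁻¹ * x) := by group
  exact (inv_mul_eq_one.1 (center_trivial _ h1)).symm

theorem conj_aut (φ : MulAut Cfsg.Spor.Fi22) (x : Cfsg.Spor.Fi22) :
    MulAut.conj (φ x) = φ * MulAut.conj x * φ⁻¹ := by
  ext z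
  simp [MulAut.mul_apply, MulAut.conj_apply]

/-- The base. -/
noncomputable def p0 : Fin actX.N := ⟨0, by decide +kernel⟩

/-- The neighbour. -/
noncomputable def p6 : Fin actX.N := ⟨256, by decide +kernel⟩

theorem TX_p0 : TX p0 = g 0 := by
  rw [← setup.T_q (s := 0) (by decide)]
  exact congrArg setup.T (Fin.ext (show (0 : ℕ) = qs.getD 0 0 by decide +kernel))

theorem TX_p6 : TX p6 = g 6 := by
  rw [← setup.T_q (s := 6) (by decide)]
  exact congrArg setup.T (Fin.ext (show (256 : ℕ) = qs.getD 6 0 by decide +kernel))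

theorem p06 : p0 ≠ p6 := fun h => absurd (congrArg Fin.val h) (show ¬ (0 : ℕ) = 256 by decide)

theorem TX_sq (p : Fin actX.N) : TX p * TX p = 1 := by
  obtain ⟨y, hy⟩ := isConj_iff.1 (setup.isConj_T p)
  show setup.T p * setup.T p = 1
  rw [← hy, conj_mul, show ev g tw = g 0 by simp [tw, ev], g_sq, mul_one, mul_inv_cancel]

theorem TX_inv (p : Fin actX.N) : (TX p)⁻¹ = TX p := inv_eq_of_mul_eq_one_right (TX_sq p)

theorem comm_TX (y : Cfsg.Spor.Fi22) (p : Fin actX.N) : y * TX p = TX p * y ↔ piX y p = p := by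
  constructor
  · intro h
    refine TX_inj ?_
    rw [TX_piX, h, mul_inv_cancel_right]
  · intro h
    have := TX_piX y p
    rw [h] at this
    calc y * TX p = y * TX p * y⁻¹ * y := by group
      _ = TX p * y := by rw [← this]

theorem piX_TX_sq (p q : Fin actX.N) : piX (TX p) (piX (TX p) q) = q := by
  rw [← Equiv.Perm.mul_apply, ← map_mul, TX_sq, map_one, Equiv.Perm.one_apply]

/-- The third point. -/
theorem third {s p : Fin actX.N} (h : piX (TX s) p ≠ p) : piX (TX p) (piX (TX s) p) = s := by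
  set a := TX s with ha
  set c := TX p with hc
  obtain ⟨u, hu⟩ := isConj_iff.1 (setup.isConj_T s)
  obtain ⟨v, hv⟩ := isConj_iff.1 (setup.isConj_T p)
  have e : a * c = v * ((v⁻¹ * u) * Fi22.tz * (v⁻¹ * u)⁻¹ * Fi22.tz) * v⁻¹ := by
    rw [ha, hc, TX, TX, ← hu, ← hv, show ev Fi22.g tw = Fi22.tz from rfl]; group
  rcases Fi22.prod_pow (v⁻¹ * u) with h2 | h2
  · refine absurd ((comm_TX a p).1 ?_) h
    have e2 : (a * c) * (a * c) = 1 := by rw [← pow_two, e, conj_pow, h2, mul_one, mul_inv_cancel]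
    have := inv_eq_of_mul_eq_one_right e2
    rw [mul_inv_rev, ha, hc, TX_inv, TX_inv] at this
    exact this.symm
  · refine TX_inj ?_
    rw [TX_piX, TX_piX, TX_inv, TX_inv, ← ha, ← hc]
    have e3 : (a * c) * (a * c) * (a * c) = 1 := by
      rw [← pow_two, ← pow_succ, e, conj_pow, h2, mul_one, mul_inv_cancel]
    have e5 : a * (c * (a * c * a) * c) = 1 := by rw [← e3]; group
    have := inv_eq_of_mul_eq_one_right e5
    rw [ha, TX_inv, ← ha] at this
    exact this.symm

/-- The product as an automorphism. -/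
noncomputable def J : MulAut Cfsg.Spor.Fi22 := ev gX [0, 6]

theorem ev_gX {w : List ℕ} (h : ∀ s ∈ w, s < 9) : ev gX w = MulAut.conj (ev g w) := by
  induction w with
  | nil => exact (map_one _).symm
  | cons s w ih =>
    show gX s * ev gX w = MulAut.conj (g s * ev g w)
    rw [map_mul, gX_lo (h s (List.mem_cons_self ..)), ih fun t ht => h t (List.mem_cons_of_mem _ ht)]

theorem J_eq : J = MulAut.conj (g 0 * g 6) := by
  rw [J, ev_gX (by decide)]
  simp [ev]

theorem comm06 : g 0 * g 6 = g 6 * g 0 := by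
  refine conj_inj ?_
  have h := eq_of_agreeX (v := [0, 6]) (w := [6, 0]) (by decide +kernel)
  rw [ev_gX (by decide), ev_gX (by decide)] at h
  simpa [ev] using h

/-- The centraliser. -/
noncomputable def C : Subgroup (MulAut Cfsg.Spor.Fi22) := Subgroup.centralizer {J}

theorem mem_C {φ : MulAut Cfsg.Spor.Fi22} : φ ∈ C ↔ φ (g 0 * g 6) = g 0 * g 6 := by
  rw [C, Subgroup.mem_centralizer_singleton_iff, J_eq]
  constructor
  · intro h
    refine conj_inj ?_
    rw [conj_aut, h, mul_inv_cancel_right]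
  · intro h
    have := conj_aut φ (g 0 * g 6)
    rw [h] at this
    conv_rhs => rw [this, inv_mul_cancel_right]

/-- The word of a neighbour. -/
noncomputable def getW (r : ℕ) : List ℕ :=
  match orbW.find? fun e => Nat.beq e.1 r with
  | some e => e.2
  | none => []

/-- The points used for witnesses. -/
def ptU : List (ℕ × List ℕ) := [(1, [1]), (2, [2, 1]), (3, [3, 2, 1]), (5, [7, 4, 3, 2, 1]), (15, [5, 4, 3, 2, 1])]

/-- The word of a point used. -/
noncomputable def getU (p : ℕ) : List ℕ :=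
  match ptU.find? fun e => Nat.beq e.1 p with
  | some e => e.2
  | none => []

/-- The element of the other point of a decomposition. -/
noncomputable def xW (r : ℕ) : List ℕ := [0, 6] ++ (getW r ++ [6] ++ (getW r).reverse)

/-- The witness of a single entry. -/
noncomputable def chkOne (r p : ℕ) : Bool :=
  okX (getU p) && Nat.blt p 3510 && Nat.beq (actX.go (getU p) 0) p && !(Nat.beq (actX.go (xW r) p) p)

/-- The third point from a witness. -/
noncomputable def thirdW (r p : ℕ) : ℕ := actX.go (getU p ++ [0] ++ (getU p).reverse) (actX.go (xW r) p)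

/-- The check against other decompositions. -/
noncomputable def chkDec (e : ℕ × ℕ × ℕ) : Bool :=
  okX (getW e.1) && Nat.beq (actX.go (getW e.1) 256) e.1 && chkOne e.1 e.2.1 && chkOne e.1 e.2.2 &&
    !(Nat.beq (thirdW e.1 e.2.1) (thirdW e.1 e.2.2))

theorem dec_ok : decW.all chkDec = true := by decide +kernel

theorem dec_cover : ∀ r < 3510, (!(Nat.beq (actX.go [0, 6] r) r) || Nat.beq r 0 || Nat.beq r 256 ||
    decW.any fun e => Nat.beq e.1 r) = true := by
  refine of_blocks (size := 512) (b := 7) (by decide) (by decide) fun j hj => ?_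
  interval_cases j <;> decide +kernel

theorem conj_TX_word {u : List ℕ} {t : ℕ} (b : Fin actX.N) (hb : TX b = g t) (ht : t < 9) (hu : okX u = true)
    {p : Fin actX.N} (hp : actX.go u b = p) : MulAut.conj (TX p) = ev gX (u ++ [t] ++ u.reverse) := by
  have e : pX (ev gX u) b = p := Fin.ext ((pX_ev hu b).trans hp)
  rw [← e, TX_pX, hb, conj_aut, ev_append, ev_append, ev_rev hu]
  congr 2
  simp [ev, gX_lo ht]

theorem okX_conjW {u : List ℕ} (hu : okX u = true) {t : ℕ} (ht : t < 10) : okX (u ++ [t] ++ u.reverse) = true :=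
  okX_append (okX_append hu (by simpa [okX] using Nat.ble_eq_true_of_le ht)) (okX_reverse hu)

theorem pair_cases {φ : MulAut Cfsg.Spor.Fi22} (hφ : φ ∈ C) :
    (pX φ p0 = p0 ∧ pX φ p6 = p6) ∨ (pX φ p0 = p6 ∧ pX φ p6 = p0) := by
  set r := pX φ p0 with hr
  set s := pX φ p6 with hs
  have hrs : TX r * TX s = g 0 * g 6 := by
    rw [hr, hs, TX_pX, TX_pX, TX_p0, TX_p6, ← map_mul]; exact mem_C.1 hφ
  have hsr : TX s * TX r = g 0 * g 6 := by
    rw [hr, hs, TX_pX, TX_pX, TX_p0, TX_p6, ← map_mul, ← comm06]; exact mem_C.1 hφ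
  have h1 : TX s = g 0 * g 6 * TX r := by rw [← hsr, mul_assoc, TX_sq, mul_one]
  have hz : piX (g 0 * g 6) r = r := by
    refine (comm_TX _ _).1 ?_
    rw [← h1]
    rw [← hrs]
    rw [← mul_assoc, TX_sq, one_mul]
  have hgo : actX.go [0, 6] r = r := by
    rw [← pX_ev (by decide +kernel) r, show ev gX [0, 6] = MulAut.conj (g 0 * g 6) from J_eq]
    exact congrArg Fin.val hz
  have hc := dec_cover r r.2
  simp only [Bool.or_eq_true, Bool.not_eq_true', List.any_eq_true] at hc
  rcases hc with ((h | h) | h) | ⟨e, he, hee⟩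
  · rw [hgo, Nat.beq_refl] at h; exact Bool.noConfusion h
  · have e0 : r = p0 := Fin.ext (Nat.eq_of_beq_eq_true h)
    refine Or.inl ⟨e0, TX_inj ?_⟩
    rw [h1, e0, TX_p0, TX_p6, comm06, mul_assoc, g_sq, mul_one]
  · have e0 : r = p6 := Fin.ext (Nat.eq_of_beq_eq_true h)
    refine Or.inr ⟨e0, TX_inj ?_⟩
    rw [h1, e0, TX_p6, TX_p0, mul_assoc, g_sq, mul_one]
  · exfalso
    have hd := List.all_eq_true.1 dec_ok e he
    have her : e.1 = (r : ℕ) := Nat.eq_of_beq_eq_true hee
    simp only [chkDec, Bool.and_eq_true, Bool.not_eq_true'] at hd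
    obtain ⟨⟨⟨⟨hw, hgw⟩, ha⟩, hb⟩, hne⟩ := hd
    have hX : MulAut.conj (TX s) = ev gX (xW e.1) := by
      rw [h1, map_mul, ← J_eq, conj_TX_word p6 TX_p6 (by decide) hw ((Nat.eq_of_beq_eq_true hgw).trans her), xW, ev_append gX [0, 6]]
      rfl
    have hxok : okX (xW e.1) = true := okX_append (by decide) (okX_conjW hw (by decide))
    have key : ∀ p, chkOne e.1 p = true → thirdW e.1 p = s := by
      intro p hp
      simp only [chkOne, Bool.and_eq_true, Bool.not_eq_true'] at hp
      obtain ⟨⟨⟨hu, hlt⟩, hgu⟩, hmv⟩ := hp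
      let q : Fin actX.N := ⟨p, Nat.le_of_ble_eq_true hlt⟩
      have hv : (piX (TX s) q : ℕ) = actX.go (xW e.1) p := by
        show (pX (MulAut.conj (TX s)) q : ℕ) = _
        rw [hX, pX_ev hxok]
      have hq : piX (TX s) q ≠ q := fun h => by
        rw [h] at hv
        rw [← hv, Nat.beq_refl] at hmv
        exact Bool.noConfusion hmv
      have h3 := congrArg Fin.val (third hq)
      rw [thirdW, ← hv]
      have hT : MulAut.conj (TX q) = ev gX (getU p ++ [0] ++ (getU p).reverse) :=
        conj_TX_word p0 TX_p0 (by decide) hu (Nat.eq_of_beq_eq_true hgu)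
      rw [← h3]
      show _ = (pX (MulAut.conj (TX q)) (piX (TX s) q) : ℕ)
      rw [hT, pX_ev (okX_conjW hu (by decide))]
    rw [key _ ha, key _ hb, Nat.beq_refl] at hne
    exact Bool.noConfusion hne

theorem card_le_two_mul {G : Type*} [Group G] [Finite G] (K L : Subgroup G)
    (h : ∀ x ∈ K, ∀ y ∈ K, x ∉ L → y ∉ L → x⁻¹ * y ∈ L) : Nat.card K ≤ 2 * Nat.card ↥(K ⊓ L) := by
  classical
  by_cases hx : ∃ x ∈ K, x ∉ L
  · obtain ⟨x, hxK, hxL⟩ := hx
    let f : K → Bool × ↥(K ⊓ L) := fun y =>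
      if hy : (y : G) ∈ L then (true, ⟨y, y.2, hy⟩)
      else (false, ⟨x⁻¹ * y, K.mul_mem (K.inv_mem hxK) y.2, h x hxK y y.2 hxL hy⟩)
    have hf : Function.Injective f := by
      intro a b e
      simp only [f] at e
      split_ifs at e with ha hb <;> simp only [Prod.mk.injEq, Subtype.mk.injEq, Bool.false_eq_true,
        Bool.true_eq_false, false_and, true_and] at e
      · exact Subtype.ext (Subtype.mk.inj e)
      · exact Subtype.ext (mul_left_cancel (Subtype.mk.inj e))
    have := Nat.card_le_card_of_injective f hf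
    rwa [Nat.card_prod, Nat.card_eq_fintype_card (α := Bool), Fintype.card_bool] at this
  · push Not at hx
    rw [inf_eq_left.2 hx]
    omega

/-- The stabiliser of the pair. -/
noncomputable def S2 : Subgroup Cfsg.Spor.Fi22 := stabP piX p0 ⊓ stabP piX p6

theorem piX_conj (y : Cfsg.Spor.Fi22) : piX y = piB y := pA_conj y

theorem card_stab0 : Nat.card (stabP piX p0) = 18393661440 := by
  have e : stabP piX p0 = Subgroup.centralizer {g 0} := by
    ext y
    rw [mem_stabP, ← comm_TX, TX_p0, Subgroup.mem_centralizer_singleton_iff]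
  have e2 : g 0 = Fi22.tz := by simp [Fi22.tz, ev]
  rw [e, e2, Fi22.centralizer_tz]
  exact Fi22.card_KH

/-- The check of a word of the orbit. -/
noncomputable def chkOrb (e : ℕ × List ℕ) : Bool :=
  okX e.2 && (e.2.all fun s => Nat.blt s 9) && Nat.beq (actX.go e.2 0) 0 && Nat.beq (actX.go e.2 256) e.1

theorem orb_ok : orbW.all chkOrb = true := by decide +kernel

theorem orb_nodup : (orbW.map Prod.fst).Nodup := by decide +kernel

theorem orb_length : orbW.length = 693 := by decide +kernel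

theorem card_S2 : 693 * Nat.card S2 ≤ 18393661440 := by
  have : Finite Cfsg.Spor.Fi22 := Fi22.finite
  have hall := fun e he => by
    simpa only [chkOrb, Bool.and_eq_true, List.all_eq_true] using List.all_eq_true.1 orb_ok e he
  have hev : ∀ e ∈ orbW, ∀ p : Fin actX.N, (piX (ev g e.2) p : ℕ) = actX.go e.2 p := by
    intro e he p
    show (pX (MulAut.conj (ev g e.2)) p : ℕ) = _
    rw [← ev_gX fun s hs => Nat.le_of_ble_eq_true ((hall e he).1.1.2 s hs), pX_ev (hall e he).1.1.1]
  have h := card_step piX (stabP piX p0) p6 (orbW.map fun e => ev g e.2) (fun y hy => by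
    obtain ⟨e, he, rfl⟩ := List.mem_map.1 hy
    refine Fin.ext ((hev e he p0).trans ?_)
    exact Nat.eq_of_beq_eq_true (hall e he).1.2) ?_
  · rw [List.length_map, orb_length, card_stab0] at h
    exact h
  · refine List.Nodup.of_map Fin.val ?_
    rw [List.map_map, List.map_map]
    rw [show orbW.map _ = orbW.map Prod.fst from List.map_congr_left fun e he => ?_]
    · exact orb_nodup
    · exact (hev e he p6).trans (Nat.eq_of_beq_eq_true (hall e he).2)

theorem card_C_le : Nat.card C ≤ 106168320 := by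
  have : Finite Cfsg.Spor.Fi22 := Fi22.finite
  have : Finite (MulAut Cfsg.Spor.Fi22) := Finite.of_injective pX pX_injective
  have h1 := card_le_two_mul C (stabP pX p0) fun x hx y hy hx' hy' => by
    rw [mem_stabP, map_mul, map_inv, Equiv.Perm.mul_apply, Equiv.Perm.inv_eq_iff_eq]
    rcases pair_cases hx with h | h
    · exact absurd h.1 hx'
    rcases pair_cases hy with k | k
    · exact absurd k.1 hy'
    rw [h.1, k.1]
  have h2 := card_le_two_mul (C ⊓ stabP pX p0) (MulAut.conj (G := Cfsg.Spor.Fi22)).range fun x _ y _ hx hy => by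
    obtain ⟨a, rfl | rfl⟩ := aut_cases x
    · exact absurd ⟨a, rfl⟩ hx
    obtain ⟨b, rfl | rfl⟩ := aut_cases y
    · exact absurd ⟨b, rfl⟩ hy
    refine ⟨psi⁻¹ (a⁻¹ * b), ?_⟩
    rw [conj_aut, inv_inv, mul_inv_rev, map_mul, map_inv]
    group
  have h3 : Nat.card ↥(C ⊓ stabP pX p0 ⊓ (MulAut.conj (G := Cfsg.Spor.Fi22)).range) ≤ Nat.card S2 := by
    refine le_trans (Subgroup.card_le_of_le (K := S2.map MulAut.conj) ?_) (le_of_eq ?_)
    · rintro _ ⟨⟨hC, h0⟩, y, rfl⟩
      rcases pair_cases hC with h | h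
      · exact ⟨y, ⟨h.1, h.2⟩, rfl⟩
      · exact absurd (((mem_stabP.1 h0)).symm.trans h.1) p06
    · exact (Nat.card_congr (S2.equivMapOfInjective _ fun _ _ h => conj_inj h).toEquiv).symm
  have h4 := card_S2
  omega

end Cfsg.Agent.Spor.Cos.Fi22Aut
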