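import Cfsg.Agent.Lib.Spor.Cos.Fi22Aut.Bound

/-!
The centraliser of the pair: a normal 2-subgroup of order 2048 and its image on forty sets of points.
-/

set_option autoImplicit false
set_option maxRecDepth 100000
set_option maxHeartbeats 1000000

namespace Cfsg.Agent.Spor.Cos.Fi22Aut

open Cfsg.Agent.Spor.Cos.Fi22 (actB homB piB baseB g g_gen g_sq)
open Cfsg.Agent.Fus.Transp Cfsg.Agent.Fus.Fi22Out

/-- The radical. -/
noncomputable def Q : Subgroup (MulAut Cfsg.Spor.Fi22) := val gX qgW

/-- The subgroup generated by all the words. -/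
noncomputable def H : Subgroup (MulAut Cfsg.Spor.Fi22) := val gX (qgW ++ topW)

theorem gen_comm_ok : ((qgW ++ topW).all fun w => agreeX (w ++ [0, 6]) ([0, 6] ++ w)) = true := by decide +kernel

theorem H_le : H ≤ C := (Subgroup.closure_le _).2 fun _ ⟨w, hw, e⟩ => by
  rw [← e, SetLike.mem_coe, C, Subgroup.mem_centralizer_singleton_iff]
  have h := eq_of_agreeX (List.all_eq_true.1 gen_comm_ok w hw)
  rwa [ev_append, ev_append] at h

theorem Q_le_H : Q ≤ H := (Subgroup.closure_le _).2 fun _ ⟨_, hw, e⟩ =>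
  e ▸ mem_val (List.mem_append_left _ hw)

/-- A generator of the radical. -/
noncomputable def xq (i : ℕ) : MulAut Cfsg.Spor.Fi22 := ev gX (qgW.getD i [])

/-- A power of the product. -/
noncomputable def jb : Bool → MulAut Cfsg.Spor.Fi22
  | true => J
  | false => 1

/-- An entry of the form. -/
def mEnt (i k : ℕ) : Bool := (commM.getD i []).getD k false

theorem comm_ok : ((List.range 10).all fun i => (List.range 10).all fun k =>
    agreeX (qgW.getD i [] ++ qgW.getD k []) ((bif mEnt i k then [0, 6] else []) ++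
      (qgW.getD k [] ++ qgW.getD i []))) = true := by decide +kernel

theorem sq_ok : (qgW.all fun w => agreeX (w ++ w) []) = true := by decide +kernel

theorem qgW_length : qgW.length = 10 := rfl

theorem qgW_getD {i : ℕ} (hi : i < 10) : qgW.getD i [] ∈ qgW := by
  rw [List.getD_eq_getElem _ _ (qgW_length.symm ▸ hi)]
  exact List.getElem_mem _

theorem xq_mem {i : ℕ} (hi : i < 10) : xq i ∈ Q := mem_val (qgW_getD hi)

theorem xq_sq {i : ℕ} (hi : i < 10) : xq i * xq i = 1 := by
  have h := eq_of_agreeX (List.all_eq_true.1 sq_ok _ (qgW_getD hi))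
  rwa [ev_append] at h

theorem xq_comm {i k : ℕ} (hi : i < 10) (hk : k < 10) : xq i * xq k = jb (mEnt i k) * (xq k * xq i) := by
  have h := eq_of_agreeX (List.all_eq_true.1 (List.all_eq_true.1 comm_ok i (List.mem_range.2 hi)) k
    (List.mem_range.2 hk))
  rw [ev_append, ev_append, ev_append] at h
  refine h.trans (congrArg (· * _) ?_)
  cases mEnt i k <;> rfl

theorem J_sq : J * J = 1 := by
  have h := eq_of_agreeX (v := [0, 6] ++ [0, 6]) (w := []) (by decide +kernel)
  rwa [ev_append] at h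

theorem J_ne : J ≠ 1 :=
  ne_of_go (v := [0, 6]) (w := []) (by decide +kernel) (by decide +kernel) ⟨1, by decide +kernel⟩ (by decide +kernel)

theorem J_comm {y : MulAut Cfsg.Spor.Fi22} (hy : y ∈ C) : y * J = J * y :=
  Subgroup.mem_centralizer_singleton_iff.1 hy

theorem jb_comm {y : MulAut Cfsg.Spor.Fi22} (hy : y ∈ C) (b : Bool) : y * jb b = jb b * y := by
  cases b
  · show y * 1 = 1 * y
    rw [mul_one, one_mul]
  · exact J_comm hy

theorem jb_mul (a b : Bool) : jb a * jb b = jb (a ^^ b) := by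
  cases a <;> cases b <;> simp [jb, J_sq]

theorem jb_inj {a b : Bool} (h : jb a = jb b) : a = b := by
  cases a <;> cases b <;> simp [jb, J_ne, Ne.symm J_ne] at h ⊢

theorem J_mem : J ∈ Q := by
  have h := xq_comm (i := 0) (k := 1) (by norm_num) (by norm_num)
  have e : xq 0 * xq 1 * (xq 1 * xq 0)⁻¹ = J := by
    rw [h, show mEnt 0 1 = true by decide +kernel]
    show J * (xq 1 * xq 0) * (xq 1 * xq 0)⁻¹ = J
    rw [mul_inv_cancel_right]
  exact e ▸ mul_mem (mul_mem (xq_mem (by norm_num)) (xq_mem (by norm_num)))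
    (inv_mem (mul_mem (xq_mem (by norm_num)) (xq_mem (by norm_num))))

theorem Q_le : Q ≤ C := Q_le_H.trans H_le

theorem jb_mem : ∀ b, jb b ∈ Q
  | true => J_mem
  | false => one_mem _

theorem sign_mul {x y z : MulAut Cfsg.Spor.Fi22} {a b : Bool} (hy : y ∈ C) (h1 : y * x = jb a * (x * y))
    (h2 : z * x = jb b * (x * z)) : (y * z) * x = jb (a ^^ b) * (x * (y * z)) := by
  rw [mul_assoc y z x, h2, ← mul_assoc, jb_comm hy b, mul_assoc (jb b), ← mul_assoc y x z, h1, ← jb_mul a b]
  cases a <;> cases b <;> simp only [jb, one_mul, mul_one, mul_assoc]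

/-- The product of some generators. -/
noncomputable def xprod (l : List ℕ) : MulAut Cfsg.Spor.Fi22 := (l.map xq).prod

/-- The sign of a product against a generator. -/
def sgnK (l : List ℕ) (k : ℕ) : Bool := l.foldr (fun i r => mEnt i k ^^ r) false

theorem xprod_mem : ∀ l : List ℕ, (∀ i ∈ l, i < 10) → xprod l ∈ Q := fun l hl =>
  list_prod_mem fun y hy => by
    obtain ⟨i, hi, rfl⟩ := List.mem_map.1 hy
    exact xq_mem (hl i hi)

theorem xprod_comm {k : ℕ} (hk : k < 10) : ∀ l : List ℕ, (∀ i ∈ l, i < 10) →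
    xprod l * xq k = jb (sgnK l k) * (xq k * xprod l)
  | [], _ => by simp [xprod, sgnK, jb]
  | i :: l, hl => by
    have hi : i < 10 := hl i (List.mem_cons_self ..)
    exact sign_mul (Q_le (xq_mem hi)) (xq_comm hi hk) (xprod_comm hk l fun t ht => hl t (List.mem_cons_of_mem _ ht))

/-- The indices of a code. -/
def idx (e : ℕ) : List ℕ := (List.range 10).filter e.testBit

/-- The inverse of the form. -/
def invM : List (List ℕ) :=
  [[1, 2], [0], [0, 4, 6, 8, 9], [5, 6, 9], [2, 6], [3, 7], [2, 3, 4], [5], [2], [2, 3]]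

/-- The code from the signs. -/
def decBit (e j : ℕ) : Bool := (invM.getD j []).foldr (fun k r => sgnK (idx e) k ^^ r) false

theorem inv_form : ((List.range 1024).all fun e => (List.range 10).all fun j => e.testBit j == decBit e j) = true := by
  decide +kernel

theorem invM_lt : ∀ j < 10, ∀ k ∈ invM.getD j [], k < 10 := by decide +kernel

theorem foldr_congr_sign {e e' : ℕ} (h : ∀ k < 10, sgnK (idx e) k = sgnK (idx e') k) :
    ∀ L : List ℕ, (∀ k ∈ L, k < 10) →
      L.foldr (fun k r => sgnK (idx e) k ^^ r) false = L.foldr (fun k r => sgnK (idx e') k ^^ r) false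
  | [], _ => rfl
  | k :: L, hL => by
    simp only [List.foldr_cons]
    rw [h k (hL k (List.mem_cons_self ..)), foldr_congr_sign h L fun t ht => hL t (List.mem_cons_of_mem _ ht)]

theorem code_eq {e e' : ℕ} (he : e < 1024) (he' : e' < 1024) (h : ∀ k < 10, sgnK (idx e) k = sgnK (idx e') k) :
    e = e' := by
  refine Nat.eq_of_testBit_eq fun j => ?_
  by_cases hj : j < 10
  · have hd : ∀ e < 1024, e.testBit j = decBit e j := fun e he => by
      simpa using List.all_eq_true.1 (List.all_eq_true.1 inv_form e (List.mem_range.2 he)) j (List.mem_range.2 hj)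
    rw [hd e he, hd e' he']
    exact foldr_congr_sign h _ (invM_lt j hj)
  · have hle : 2 ^ 10 ≤ 2 ^ j := Nat.pow_le_pow_right (by norm_num) (by omega)
    rw [Nat.testBit_eq_false_of_lt (by omega), Nat.testBit_eq_false_of_lt (by omega)]

theorem idx_lt {e i : ℕ} (h : i ∈ idx e) : i < 10 := List.mem_range.1 (List.mem_filter.1 h).1

/-- The elements of the radical by codes. -/
noncomputable def qEl (p : Fin 1024 × Bool) : Q :=
  ⟨xprod (idx p.1) * jb p.2, mul_mem (xprod_mem _ fun _ h => idx_lt h) (jb_mem _)⟩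

theorem qEl_comm (p : Fin 1024 × Bool) {k : ℕ} (hk : k < 10) :
    (qEl p : MulAut Cfsg.Spor.Fi22) * xq k = jb (sgnK (idx p.1) k) * (xq k * qEl p) := by
  have h : jb p.2 * xq k = jb false * (xq k * jb p.2) := by
    show _ = 1 * _
    rw [one_mul, jb_comm (Q_le (xq_mem hk))]
  have := sign_mul (Q_le (xprod_mem _ fun _ h => idx_lt h)) (xprod_comm hk _ fun _ h => idx_lt (e := p.1) h) h
  rwa [Bool.xor_false] at this

theorem qEl_injective : Function.Injective qEl := by
  intro p p' h
  have h' : (qEl p : MulAut Cfsg.Spor.Fi22) = qEl p' := congrArg Subtype.val h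
  have e : p.1 = p'.1 := Fin.ext <| code_eq p.1.2 p'.1.2 fun k hk => jb_inj <| by
    have h1 := qEl_comm p hk
    rw [h', qEl_comm p' hk] at h1
    exact (mul_right_cancel h1).symm
  refine Prod.ext e (jb_inj ?_)
  have h2 : xprod (idx p.1) * jb p.2 = xprod (idx p'.1) * jb p'.2 := h'
  rw [e] at h2
  exact mul_left_cancel h2

theorem finite_aut : Finite (MulAut Cfsg.Spor.Fi22) := Finite.of_injective pX pX_injective

theorem card_Q_ge : 2048 ≤ Nat.card Q := by
  have := finite_aut
  have h := Nat.card_le_card_of_injective qEl qEl_injective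
  rw [Nat.card_prod, Nat.card_fin, Nat.card_eq_fintype_card (α := Bool), Fintype.card_bool] at h
  omega

/-- The forty sets of points. -/
def SS (i : Fin 40) : Set (Fin actX.N) := {p | (p : ℕ) ∈ sets.getD i []}

theorem sets_ok : ((List.range 40).all fun i => Nat.beq (sets.getD i []).length 36 &&
    ((sets.getD i []).all fun p => Nat.blt p 3510) && decide (sets.getD i []).Nodup) = true := by decide +kernel

theorem ncard_SS (i : Fin 40) : (SS i).ncard = 36 := by
  have h := List.all_eq_true.1 sets_ok i (List.mem_range.2 i.2)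
  simp only [Bool.and_eq_true, List.all_eq_true, decide_eq_true_eq] at h
  obtain ⟨⟨hl, hlt⟩, hn⟩ := h
  rw [← Set.ncard_image_of_injective (SS i) Fin.val_injective,
    show Fin.val '' SS i = ((sets.getD i []).toFinset : Set ℕ) from Set.ext fun x => by
      simp only [Set.mem_image, SS, Set.mem_setOf_eq, List.coe_toFinset]
      exact ⟨fun ⟨p, hp, e⟩ => e ▸ hp, fun hx => ⟨⟨x, Nat.le_of_ble_eq_true (hlt x hx)⟩, hx, rfl⟩⟩,
    Set.ncard_coe_finset, List.toFinset_card_of_nodup hn, Nat.eq_of_beq_eq_true hl]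

theorem sets_sep : ((List.range 40).all fun i => (List.range 40).all fun j =>
    Nat.beq i j || (sets.getD i []).any fun p => !((sets.getD j []).contains p)) = true := by decide +kernel

theorem SS_injective : Function.Injective SS := by
  intro i j h
  by_contra hne
  have hh := List.all_eq_true.1 (List.all_eq_true.1 sets_sep i (List.mem_range.2 i.2)) j (List.mem_range.2 j.2)
  simp only [Bool.or_eq_true, List.any_eq_true, Bool.not_eq_true', List.contains_eq_mem, decide_eq_false_iff_not]
    at hh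
  rcases hh with hh | ⟨p, hp, hp'⟩
  · exact hne (Fin.ext (Nat.eq_of_beq_eq_true hh))
  · have hs := List.all_eq_true.1 sets_ok i (List.mem_range.2 i.2)
    simp only [Bool.and_eq_true, List.all_eq_true] at hs
    have hlt : p < actX.N := Nat.le_of_ble_eq_true (hs.1.2 p hp)
    exact hp' (show (⟨p, hlt⟩ : Fin actX.N) ∈ SS j from h ▸ hp)

/-- The automorphisms permuting the forty sets. -/
noncomputable def W : Subgroup (MulAut Cfsg.Spor.Fi22) where
  carrier := {φ | ∃ σ : Equiv.Perm (Fin 40), ∀ i, pX φ '' SS i = SS (σ i)}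
  one_mem' := ⟨1, fun i => by simp⟩
  mul_mem' := fun {x y} ⟨σ, hσ⟩ ⟨τ, hτ⟩ => ⟨σ * τ, fun i => by
    rw [map_mul, Equiv.Perm.coe_mul, Set.image_comp, hτ, hσ, Equiv.Perm.mul_apply]⟩
  inv_mem' := fun {x} ⟨σ, hσ⟩ => ⟨σ⁻¹, fun i => by
    have h := hσ (σ⁻¹ i)
    rw [← Equiv.Perm.mul_apply, mul_inv_cancel, Equiv.Perm.one_apply] at h
    rw [← h, ← Set.image_comp, ← Equiv.Perm.coe_mul, ← map_mul, inv_mul_cancel, map_one, Equiv.Perm.coe_one,
      Set.image_id]⟩

theorem W_spec (φ : W) (i : Fin 40) : pX φ.1 '' SS i = SS (φ.2.choose i) := φ.2.choose_spec i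

theorem W_unique (φ : W) {σ : Equiv.Perm (Fin 40)} (h : ∀ i, pX φ.1 '' SS i = SS (σ i)) : φ.2.choose = σ :=
  Equiv.ext fun i => SS_injective ((W_spec φ i).symm.trans (h i))

/-- The permutation of the forty sets. -/
noncomputable def rho : W →* Equiv.Perm (Fin 40) where
  toFun φ := φ.2.choose
  map_one' := W_unique 1 fun i => by simp
  map_mul' φ χ := W_unique (φ * χ) fun i => by
    rw [Subgroup.coe_mul, map_mul, Equiv.Perm.coe_mul, Set.image_comp, W_spec, W_spec, Equiv.Perm.mul_apply]

/-- The sets are moved as listed. -/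
noncomputable def chkMove (w L : List ℕ) : Bool :=
  okX w && ((List.range 40).all fun i => (sets.getD i []).all fun p =>
    (sets.getD (L.getD i 0) []).contains (actX.go w p))

theorem mem_W {w L : List ℕ} (h : chkMove w L = true) (σ : Equiv.Perm (Fin 40))
    (hσ : ∀ i, (σ i : ℕ) = L.getD i 0) : ∀ i, pX (ev gX w) '' SS i = SS (σ i) := by
  intro i
  simp only [chkMove, Bool.and_eq_true, List.all_eq_true, List.contains_eq_mem, decide_eq_true_eq] at h
  refine Set.eq_of_subset_of_ncard_le ?_ (by rw [Set.ncard_image_of_injective _ (Equiv.injective _), ncard_SS, ncard_SS])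
  rintro _ ⟨p, hp, rfl⟩
  show ((pX (ev gX w) p : Fin actX.N) : ℕ) ∈ sets.getD (σ i) []
  rw [pX_ev h.1, hσ]
  exact h.2 i (List.mem_range.2 i.2) p hp

/-- An image of the quotient. -/
def tFn (a : Fin 5) (i : Fin 40) : Fin 40 := Fin.ofNat 40 ((topL.getD a []).getD i 0)

theorem tFn_inj : ∀ a i j, tFn a i = tFn a j → i = j := by decide +kernel

theorem tFn_val : ∀ (a : Fin 5) (i : Fin 40), (tFn a i : ℕ) = (topL.getD a []).getD i 0 := by decide +kernel

/-- The generators of the image. -/
noncomputable def tP (a : Fin 5) : Equiv.Perm (Fin 40) :=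
  Equiv.ofBijective (tFn a) (Finite.injective_iff_bijective.1 fun i j => tFn_inj a i j)

/-- The generators of the image, by naturals. -/
noncomputable def tN (a : ℕ) : Equiv.Perm (Fin 40) := if h : a < 5 then tP ⟨a, h⟩ else 1

/-- The image. -/
noncomputable def T5 : Subgroup (Equiv.Perm (Fin 40)) := Subgroup.closure (Set.range tP)

theorem top_ok : ((List.range 5).all fun a => chkMove (topW.getD a []) (topL.getD a [])) = true := by
  decide +kernel

theorem rad_ok : (qgW.all fun w => chkMove w (List.range 40)) = true := by decide +kernel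

theorem top_mem (a : Fin 5) : ∀ i, pX (ev gX (topW.getD a [])) '' SS i = SS (tP a i) :=
  mem_W (List.all_eq_true.1 top_ok a (List.mem_range.2 a.2)) (tP a) fun i => tFn_val a i

theorem rad_mem {w : List ℕ} (hw : w ∈ qgW) :
    ∀ i, pX (ev gX w) '' SS i = SS ((1 : Equiv.Perm (Fin 40)) i) :=
  mem_W (List.all_eq_true.1 rad_ok w hw) 1 fun i => by
    rw [Equiv.Perm.one_apply, List.getD_eq_getElem _ _ (by simp), List.getElem_range]

theorem topW_length : topW.length = 5 := rfl

theorem topW_index {w : List ℕ} (hw : w ∈ topW) : ∃ a : Fin 5, topW.getD a [] = w := by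
  obtain ⟨i, hi, rfl⟩ := List.getElem_of_mem hw
  exact ⟨⟨i, topW_length ▸ hi⟩, List.getD_eq_getElem _ _ hi⟩

theorem H_le_W : H ≤ (T5.comap rho).map W.subtype := by
  refine (Subgroup.closure_le _).2 ?_
  rintro _ ⟨w, hw, rfl⟩
  rcases List.mem_append.1 hw with hw | hw
  · refine ⟨⟨ev gX w, 1, rad_mem hw⟩, ?_, rfl⟩
    show rho _ ∈ T5
    rw [show rho ⟨ev gX w, 1, rad_mem hw⟩ = 1 from W_unique _ (rad_mem hw)]
    exact one_mem _
  · obtain ⟨a, rfl⟩ := topW_index hw
    refine ⟨⟨ev gX _, tP a, top_mem a⟩, ?_, rfl⟩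
    show rho _ ∈ T5
    rw [show rho ⟨ev gX _, tP a, top_mem a⟩ = tP a from W_unique _ (top_mem a)]
    exact Subgroup.subset_closure ⟨a, rfl⟩

theorem H_le_W' : H ≤ W := fun x hx => by
  obtain ⟨y, -, rfl⟩ := H_le_W hx
  exact y.2

/-- The permutation of the forty sets on the subgroup. -/
noncomputable def rhoH : H →* Equiv.Perm (Fin 40) := rho.comp (Subgroup.inclusion H_le_W')

theorem rhoH_eq (φ : H) {σ : Equiv.Perm (Fin 40)} (h : ∀ i, pX φ.1 '' SS i = SS (σ i)) : rhoH φ = σ :=
  W_unique _ h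

theorem range_rhoH : rhoH.range = T5 := by
  refine le_antisymm ?_ ((Subgroup.closure_le _).2 ?_)
  · rintro _ ⟨φ, rfl⟩
    obtain ⟨y, hy, e⟩ := H_le_W φ.2
    have : (Subgroup.inclusion H_le_W' φ) = y := Subtype.ext e.symm
    show rho (Subgroup.inclusion H_le_W' φ) ∈ T5
    rw [this]
    exact hy
  · rintro _ ⟨a, rfl⟩
    refine ⟨⟨ev gX (topW.getD a []), mem_val (List.mem_append_right _ ?_)⟩, rhoH_eq _ (top_mem a)⟩
    rw [List.getD_eq_getElem _ _ (topW_length.symm ▸ a.2)]
    exact List.getElem_mem _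

theorem Q_ker : Q.subgroupOf H ≤ rhoH.ker := by
  have h : Q ≤ rhoH.ker.map H.subtype := by
    refine (Subgroup.closure_le _).2 ?_
    rintro _ ⟨w, hw, rfl⟩
    exact ⟨⟨ev gX w, mem_val (List.mem_append_left _ hw)⟩, rhoH_eq _ (rad_mem hw), rfl⟩
  intro x hx
  obtain ⟨y, hy, e⟩ := h (Subgroup.mem_subgroupOf.1 hx)
  exact Subtype.ext e ▸ hy

/-- The value of a word of the image. -/
def goT : List ℕ → ℕ → ℕ
  | [], x => x
  | a :: w, x => (topL.getD a []).getD (goT w x) 0

theorem tN_mem (a : ℕ) : tN a ∈ T5 := by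
  unfold tN
  split_ifs with h
  · exact Subgroup.subset_closure ⟨_, rfl⟩
  · exact one_mem _

theorem ev_tN : ∀ w : List ℕ, (∀ a ∈ w, a < 5) → ∀ i : Fin 40, (ev tN w i : ℕ) = goT w i
  | [], _, _ => rfl
  | a :: w, h, i => by
    show ((tN a) (ev tN w i) : ℕ) = _
    rw [tN, dif_pos (h a (List.mem_cons_self ..))]
    show (tFn _ _ : ℕ) = _
    rw [tFn_val, ev_tN w (fun t ht => h t (List.mem_cons_of_mem _ ht)) i]
    rfl

theorem ev_tN_mem : ∀ w : List ℕ, ev tN w ∈ T5
  | [] => one_mem _
  | a :: w => mul_mem (tN_mem a) (ev_tN_mem w)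

/-- The stabiliser of some points in the image. -/
noncomputable def fixT : List (Fin 40) → Subgroup (Equiv.Perm (Fin 40))
  | [] => T5
  | b :: l => fixT l ⊓ stabP (MonoidHom.id _) b

theorem mem_fixT : ∀ (pre : List (Fin 40)) {y : Equiv.Perm (Fin 40)}, y ∈ T5 → (∀ b ∈ pre, y b = b) → y ∈ fixT pre
  | [], _, hy, _ => hy
  | b :: l, _, hy, h => ⟨mem_fixT l hy fun t ht => h t (List.mem_cons_of_mem _ ht), h b (List.mem_cons_self ..)⟩

/-- The check of a chain. -/
def chkChainT : List (ℕ × List (List ℕ)) → List (Fin 40) → Bool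
  | [], _ => true
  | (b, ws) :: rest, pre => Nat.blt b 40 && (ws.all fun w => (w.all fun a => Nat.blt a 5) &&
      pre.all fun q => Nat.beq (goT w q) q) && decide (ws.map fun w => goT w b).Nodup &&
      chkChainT rest (Fin.ofNat 40 b :: pre)

/-- The size of a chain. -/
def sizeT : List (ℕ × List (List ℕ)) → ℕ
  | [] => 1
  | (_, ws) :: rest => ws.length * sizeT rest

theorem chain_le : ∀ ch pre, chkChainT ch pre = true → sizeT ch ≤ Nat.card (fixT pre)
  | [], pre, _ => Nat.card_pos
  | (b, ws) :: rest, pre, h => by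
    simp only [chkChainT, Bool.and_eq_true, List.all_eq_true, decide_eq_true_eq] at h
    obtain ⟨⟨⟨hb, hw⟩, hn⟩, hr⟩ := h
    have ih := chain_le rest _ hr
    have hev : ∀ w ∈ ws, ∀ i, (ev tN w i : ℕ) = goT w i := fun w hw' =>
      ev_tN w fun a ha => Nat.le_of_ble_eq_true ((hw w hw').1 a ha)
    have hbv : ((Fin.ofNat 40 b : Fin 40) : ℕ) = b := Nat.mod_eq_of_lt (Nat.le_of_ble_eq_true hb)
    have hs := card_step (MonoidHom.id _) (fixT pre) (Fin.ofNat 40 b) (ws.map (ev tN)) (fun y hy => by
      obtain ⟨w, hw', rfl⟩ := List.mem_map.1 hy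
      exact mem_fixT pre (ev_tN_mem w) fun q hq => Fin.ext
        ((hev w hw' q).trans (Nat.eq_of_beq_eq_true ((hw w hw').2 q hq)))) (by
      refine List.Nodup.of_map Fin.val ?_
      rw [List.map_map, List.map_map, show ws.map _ = ws.map fun w => goT w b from
        List.map_congr_left fun w hw' => by
          show (ev tN w (Fin.ofNat 40 b) : ℕ) = _
          rw [hev w hw', hbv]]
      exact hn)
    rw [List.length_map] at hs
    exact (Nat.mul_le_mul_left _ ih).trans hs

theorem chainW_ok : chkChainT chainW [] = true ∧ sizeT chainW = 51840 := by decide +kernel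

theorem card_T5_ge : 51840 ≤ Nat.card T5 := chainW_ok.2 ▸ chain_le chainW [] chainW_ok.1

theorem counts : H = C ∧ Q.subgroupOf H = rhoH.ker ∧ Nat.card Q = 2048 ∧ Nat.card T5 = 51840 := by
  have := finite_aut
  have h1 := rhoH.ker.card_mul_index
  rw [Subgroup.index_ker, range_rhoH] at h1
  have h2 : Nat.card (Q.subgroupOf H) = Nat.card Q := Nat.card_congr (Subgroup.subgroupOfEquivOfLe Q_le_H).toEquiv
  have h3 : Nat.card Q ≤ Nat.card rhoH.ker := h2 ▸ Subgroup.card_le_of_le Q_ker
  have h4 : Nat.card H ≤ Nat.card C := Subgroup.card_le_of_le H_le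
  have h5 := card_C_le
  have h6 := card_Q_ge
  have h7 := card_T5_ge
  have ha : Nat.card rhoH.ker = 2048 := by
    by_contra hne
    have : 2049 * 51840 ≤ Nat.card rhoH.ker * Nat.card T5 := Nat.mul_le_mul (by omega) h7
    omega
  have hb : Nat.card T5 = 51840 := by
    rw [ha] at h1
    omega
  have hc : Nat.card C ≤ Nat.card H := by rw [← h1, ha, hb]; omega
  exact ⟨Subgroup.eq_of_le_of_card_ge H_le hc, Subgroup.eq_of_le_of_card_ge Q_ker (by omega),
    by omega, hb⟩

theorem qEl_surjective : Function.Surjective qEl := by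
  have := finite_aut
  exact (Nat.bijective_iff_injective_and_card qEl).2 ⟨qEl_injective, by
    rw [counts.2.2.1, Nat.card_prod, Nat.card_fin, Nat.card_eq_fintype_card (α := Bool), Fintype.card_bool]⟩ |>.2

end Cfsg.Agent.Spor.Cos.Fi22Aut
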