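import Cfsg.Agent.Lib.Spor.Cos.Fi22Aut.Odd
import Cfsg.Agent.Lib.Fus.M22U.Model
import Cfsg.Agent.Lib.Fus.CharTwo
import Cfsg.Agent.Lib.Grp.Frattini
import Cfsg.Prelude.Def_MonsterType
import Cfsg.Prelude.Def_Transfer

/-!
The centraliser of the product of two commuting transpositions in the automorphism group, transported.
-/

set_option autoImplicit false
set_option maxRecDepth 100000
set_option maxHeartbeats 1000000

namespace Cfsg.Agent.Spor.Cos.Fi22Aut

open Cfsg.Agent.Spor.Cos.Fi22 (actB homB piB baseB g g_gen g_sq)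
open Cfsg.Agent.Fus.Transp Cfsg.Agent.Fus.Fi22Out

open scoped commutatorElement

/-- A 2-group with centre of order two containing all squares is extraspecial, if it is not abelian. -/
theorem extraspecial_of_squares {P : Type*} [Group P] [Finite P] {n : ℕ} (hcard : Nat.card P = 2 ^ n) (hn : 2 ≤ n)
    (hZ : Nat.card (Subgroup.center P) = 2) (hsq : ∀ x : P, x ^ 2 ∈ Subgroup.center P) :
    Cfsg.IsExtraspecial 2 P := by
  haveI : Fact (Nat.Prime 2) := ⟨Nat.prime_two⟩
  have hp : IsPGroup 2 P := IsPGroup.of_card hcard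
  have h1 : commutator P ≤ Subgroup.center P := by
    rw [commutator_eq_closure, Subgroup.closure_le]
    rintro _ ⟨x, y, rfl⟩
    have e : ⁅x, y⁆ = x ^ 2 * (x⁻¹ * y) ^ 2 * (y ^ 2)⁻¹ := by
      rw [commutatorElement_def]
      simp only [sq]
      group
    rw [e]
    exact mul_mem (mul_mem (hsq x) (hsq _)) (inv_mem (hsq y))
  have hne : commutator P ≠ ⊥ := fun e => by
    have : Subgroup.center P = ⊤ := eq_top_iff.2 fun x _ => Subgroup.mem_center_iff.2 fun g => by
      have h : ⁅g, x⁆ ∈ commutator P := Subgroup.commutator_mem_commutator (Subgroup.mem_top _) (Subgroup.mem_top _)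
      rw [e, Subgroup.mem_bot] at h
      exact commutatorElement_eq_one_iff_mul_comm.1 h
    rw [this, Subgroup.card_top, hcard] at hZ
    have : 2 ^ 2 ≤ 2 ^ n := Nat.pow_le_pow_right (by norm_num) hn
    omega
  have hc : commutator P = Subgroup.center P := by
    refine Subgroup.eq_of_le_of_card_ge h1 ?_
    rw [hZ]
    have := (Subgroup.one_lt_card_iff_ne_bot _).2 hne
    omega
  refine ⟨⟨hp, le_antisymm ?_ ?_, hc⟩, hZ⟩
  · exact Grp.frattini_le_of_elementary Nat.prime_two h1 hsq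
  · exact hc ▸ Grp.pGroup_commutator_le_frattini hp

/-- The conclusion for a group, an element and a subgroup. -/
def Concl {A : Type*} [Group A] (j : A) (R : Subgroup A) : Prop :=
  Cfsg.IsLargeExtraspecial R ∧ Nat.card R = 2 ^ 11 ∧ R ≤ Subgroup.centralizer ({j} : Set A) ∧
    ∃ (_ : (R.subgroupOf (Subgroup.centralizer ({j} : Set A))).Normal) (F : Type) (_ : Field F) (_ : Fintype F),
      Fintype.card F = 4 ∧
        Nonempty (↥(Subgroup.centralizer ({j} : Set A)) ⧸ R.subgroupOf (Subgroup.centralizer ({j} : Set A)) ≃*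
          MulAut (Cfsg.PSU 4 F 2))

noncomputable local instance : Fintype F4 := Fintype.ofFinite F4

theorem concl_of_equiv {A : Type*} [Group A] (E : A ≃* MulAut Cfsg.Spor.Fi22) (j : A) (hj : E j = J) (R : Subgroup A)
    (hR : R = (Cfsg.generalizedFittingSubgroup ↥(Subgroup.centralizer ({j} : Set A))).map
      (Subgroup.centralizer ({j} : Set A)).subtype) : Concl j R := by
  have := finite_aut
  have : Finite A := Finite.of_equiv _ E.symm.toEquiv
  haveI : Fact (Nat.Prime 2) := ⟨Nat.prime_two⟩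
  set C' := Subgroup.centralizer ({j} : Set A) with hC'
  have hC : ∀ x, x ∈ C' ↔ E x ∈ C := fun x => by
    rw [hC', C, Subgroup.mem_centralizer_singleton_iff, Subgroup.mem_centralizer_singleton_iff, ← hj, ← map_mul,
      ← map_mul, E.injective.eq_iff]
  set Qs : Subgroup A := Q.comap E.toMonoidHom with hQs
  have hQ : ∀ x, x ∈ Qs ↔ E x ∈ Q := fun _ => Iff.rfl
  have hQC : Qs ≤ C' := fun x hx => (hC x).2 (Q_le hx)
  have hcardQ : Nat.card Qs = 2 ^ 11 := by
    have e : Nat.card Qs = Nat.card Q := Nat.card_congr (E.toEquiv.subtypeEquiv hQ)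
    rw [e, counts.2.2.1]; norm_num
  have hjQ : j ∈ Qs := by rw [hQ, hj]; exact J_mem
  have hjne : j ≠ 1 := fun h => J_ne (by rw [← hj, h, map_one])
  have hcQ : ∀ y, y ∈ Subgroup.centralizer (Qs : Set A) ↔ y = 1 ∨ y = j := by
    intro y
    constructor
    · intro hy
      have : E y ∈ Subgroup.centralizer (Q : Set (MulAut Cfsg.Spor.Fi22)) := Subgroup.mem_centralizer_iff.2 fun q hq => by
        have := congrArg E (Subgroup.mem_centralizer_iff.1 hy (E.symm q) (show E (E.symm q) ∈ Q by rwa [E.apply_symm_apply]))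
        simpa using this
      obtain ⟨b, hb⟩ := mem_centralizer_Q.1 this
      cases b
      · exact Or.inl (E.injective (hb.trans (map_one E).symm))
      · exact Or.inr (E.injective (hb.trans hj.symm))
    · rintro (rfl | rfl)
      · exact one_mem _
      · exact Subgroup.mem_centralizer_iff.2 fun q hq =>
          (Subgroup.mem_centralizer_singleton_iff.1 (hQC hq))
  -- the map to the forty sets
  let Ec : C' →* C := (E.toMonoidHom.comp C'.subtype).codRestrict C fun x => (hC x).1 x.2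
  let rs : C' →* Equiv.Perm (Fin 40) := rhoC.comp Ec
  have hEc : Function.Surjective Ec := fun c => ⟨⟨E.symm c, (hC _).2 (by rw [E.apply_symm_apply]; exact c.2)⟩,
    Subtype.ext (E.apply_symm_apply _)⟩
  have hker : rs.ker = Qs.subgroupOf C' := by
    ext x
    exact mem_ker_rhoC (x := Ec x)
  have hrange : rs.range = T5 := by
    rw [← range_rhoC]
    show (rhoC.comp Ec).range = rhoC.range
    rw [MonoidHom.range_comp, MonoidHom.range_eq_top.2 hEc, ← MonoidHom.range_eq_map]
  have hnorm : (Qs.subgroupOf C').Normal := hker ▸ inferInstance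
  have hcore : Cfsg.pCore 2 C' = Qs.subgroupOf C' := by
    refine le_antisymm (sSup_le ?_) (le_sSup ⟨hnorm, IsPGroup.of_card (n := 11)
      (by rw [Nat.card_congr (Subgroup.subgroupOfEquivOfLe hQC).toEquiv, hcardQ])⟩)
    rintro N ⟨hN, hp⟩
    have h0 : N.map rs = ⊥ := by
      refine no_two _ (hrange ▸ Subgroup.map_le_range _ _) ?_ (hp.map rs)
      intro t ht m hm
      obtain ⟨c, rfl⟩ : t ∈ rs.range := hrange.symm ▸ ht
      obtain ⟨z, hz, rfl⟩ := hm
      exact ⟨c * z * c⁻¹, hN.conj_mem z hz c, by rw [map_mul, map_mul, map_inv]⟩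
    rw [← hker]
    intro x hx
    have := Subgroup.mem_map_of_mem rs hx
    rwa [h0, Subgroup.mem_bot] at this
  have hchar : Invol.CharP' 2 C' := by
    show Subgroup.centralizer (Cfsg.pCore 2 C' : Set C') ≤ Cfsg.pCore 2 C'
    rw [hcore]
    intro x hx
    have h1 : (x : A) ∈ Subgroup.centralizer (Qs : Set A) := Subgroup.mem_centralizer_iff.2 fun q hq =>
      congrArg Subtype.val (Subgroup.mem_centralizer_iff.1 hx ⟨q, hQC hq⟩ hq)
    show (x : A) ∈ Qs
    rcases (hcQ _).1 h1 with h | h <;> rw [h]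
    exacts [one_mem _, hjQ]
  have hRQ : R = Qs := by
    rw [hR, Cfsg.Agent.Fus.generalizedFittingSubgroup_eq_of_charP hchar, hcore, Subgroup.map_subgroupOf_eq_of_le hQC]
  subst hRQ
  have hcen : ∀ x : Qs, x ∈ Subgroup.center Qs ↔ (x : A) = 1 ∨ (x : A) = j := by
    intro x
    rw [← hcQ, Subgroup.mem_center_iff, Subgroup.mem_centralizer_iff]
    exact ⟨fun h q hq => congrArg Subtype.val (h ⟨q, hq⟩), fun h q => Subtype.ext (h q q.2)⟩
  have hZ : Nat.card (Subgroup.center Qs) = 2 := by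
    have e : (Subgroup.center Qs : Set Qs) = {1, ⟨j, hjQ⟩} := Set.ext fun x => by
      rw [SetLike.mem_coe, hcen, Set.mem_insert_iff, Set.mem_singleton_iff, Subtype.ext_iff, Subtype.ext_iff]
      rfl
    have hne : (1 : Qs) ≠ ⟨j, hjQ⟩ := fun h => hjne (congrArg Subtype.val h).symm
    rw [← SetLike.coe_sort_coe, Nat.card_coe_set_eq, e, Set.ncard_pair hne]
  have hext : Cfsg.IsExtraspecial 2 Qs := by
    refine extraspecial_of_squares (n := 11) hcardQ (by norm_num) hZ fun x => (hcen _).2 ?_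
    obtain ⟨b, hb⟩ := sq_Q ((hQ x).1 x.2)
    rw [SubgroupClass.coe_pow, sq]
    cases b
    · exact Or.inl (E.injective (by rw [map_mul, hb, map_one]; rfl))
    · exact Or.inr (E.injective (by rw [map_mul, hb, hj]; rfl))
  have hmap : (Subgroup.center Qs).map Qs.subtype = Subgroup.centralizer (Qs : Set A) := by
    ext y
    rw [hcQ]
    constructor
    · rintro ⟨x, hx, rfl⟩
      exact (hcen x).1 hx
    · intro hy
      have hyQ : y ∈ Qs := hy.elim (fun h => h ▸ one_mem _) (fun h => h ▸ hjQ)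
      exact ⟨⟨y, hyQ⟩, (hcen _).2 hy, rfl⟩
  refine ⟨⟨hext, hmap.symm, ?_, ?_⟩, hcardQ, hQC, hnorm, F4, inferInstance, Fintype.ofFinite F4, card_F4, ?_⟩
  · intro c hc
    have hcC : c ∈ C' := Subgroup.mem_centralizer_singleton_iff.2
      (Subgroup.mem_centralizer_iff.1 hc j (by rw [SetLike.mem_coe, hmap, hcQ]; exact Or.inr rfl)).symm
    refine Subgroup.mem_normalizer_iff.2 fun x => ⟨fun hx => ?_, fun hx => ?_⟩
    · rw [hQ, map_mul, map_mul, map_inv]
      exact Q_conj ((hC c).1 hcC) hx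
    · have := Q_conj (inv_mem ((hC c).1 hcC)) ((hQ _).1 hx)
      rw [hQ]
      simpa [mul_assoc] using this
  · intro K hK hQK
    have h := odd_bot (K := K.map E.toMonoidHom)
      (by rwa [← Nat.card_congr (K.equivMapOfInjective E.toMonoidHom E.injective).toEquiv]) fun q hq => by
        have hq' : E.symm q ∈ Qs := by rw [hQ, E.apply_symm_apply]; exact hq
        refine Subgroup.mem_normalizer_iff.2 fun x => ?_
        have key : ∀ y, y ∈ K.map E.toMonoidHom ↔ E.symm y ∈ K := fun y => Subgroup.mem_map_equiv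
        rw [key, key, map_mul, map_mul, map_inv]
        exact Subgroup.mem_normalizer_iff.1 (hQK hq') _
    exact (Subgroup.map_eq_bot_iff_of_injective K E.injective).1 h
  · obtain ⟨e⟩ := nonempty_psu_equiv card_F4
    exact ⟨(QuotientGroup.quotientMulEquivOfEq hker.symm).trans ((QuotientGroup.quotientKerEquivRange rs).trans
      ((MulEquiv.subgroupCongr hrange).trans ((MulEquiv.ofBijective conjP conjP_bijective).trans
        (MulAut.congr e).symm)))⟩

/-- The model with two given commuting transpositions in standard position. -/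
theorem exists_position {G : Type*} [Group G] [Finite G] {D : Set G} (hD : Cfsg.IsThreeTranspositionGroup D)
    (hprim : Cfsg.IsPrimitiveUnderConj D) (h22 : Cfsg.IsOfTypeM22 G D) (d₁ d₂ : G) (h₁ : d₁ ∈ D) (h₂ : d₂ ∈ D)
    (hne : d₁ ≠ d₂) (hc : Commute d₁ d₂) : ∃ e : G ≃* Cfsg.Spor.Fi22, e d₁ = g 0 ∧ e d₂ = g 6 := by
  obtain ⟨e₀, he⟩ := Cfsg.Agent.Fus.M22U.exists_model hD hprim h22
  have hcls : ∀ d ∈ D, IsConj (g 0) (e₀.symm d) := fun d hd =>
    (he _).1 (by rw [e₀.apply_symm_apply]; exact hd)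
  obtain ⟨c, hc1⟩ := isConj_iff.1 (hcls d₁ h₁)
  have hx : IsConj (ev g tw) (c⁻¹ * e₀.symm d₂ * c) := by
    rw [show ev g tw = g 0 by simp [tw, ev]]
    exact (hcls d₂ h₂).trans (isConj_iff.2 ⟨c⁻¹, by rw [inv_inv]⟩)
  obtain ⟨r, hr⟩ := setup.exists_T hx
  have hr' : TX r = c⁻¹ * e₀.symm d₂ * c := hr
  have hcm : g 0 * TX r = TX r * g 0 := by
    rw [hr']
    have h0 : g 0 = c⁻¹ * e₀.symm d₁ * c := by rw [← hc1]; group
    rw [h0]
    calc c⁻¹ * e₀.symm d₁ * c * (c⁻¹ * e₀.symm d₂ * c) = c⁻¹ * e₀.symm (d₁ * d₂) * c := by rw [map_mul]; group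
      _ = c⁻¹ * e₀.symm (d₂ * d₁) * c := by rw [hc.eq]
      _ = c⁻¹ * e₀.symm d₂ * c * (c⁻¹ * e₀.symm d₁ * c) := by rw [map_mul]; group
  have hr0 : r ≠ p0 := fun h => hne (e₀.symm.injective (by
    rw [h, TX_p0] at hr'
    rw [← hc1, hr']; group))
  have hgo : actX.go [0] r = r := by
    rw [← pX_ev (by decide +kernel) r, show ev gX [0] = MulAut.conj (g 0) from by
      rw [← gX_lo (s := 0) (by norm_num)]; exact mul_one _]
    exact congrArg Fin.val ((comm_TX (g 0) r).1 hcm)
  have hcov := orb_cover r r.2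
  simp only [Bool.or_eq_true, Bool.not_eq_true', List.any_eq_true] at hcov
  rcases hcov with (h | h) | ⟨w, hw, hwr⟩
  · rw [hgo, Nat.beq_refl] at h; exact Bool.noConfusion h
  · exact absurd (Fin.ext (Nat.eq_of_beq_eq_true h)) hr0
  have ho := List.all_eq_true.1 orb_ok w hw
  simp only [chkOrb, Bool.and_eq_true, List.all_eq_true] at ho
  obtain ⟨⟨⟨hok, h9⟩, hw0⟩, hw6⟩ := ho
  have hev : ∀ p : Fin actX.N, (piX (ev g w.2) p : ℕ) = actX.go w.2 p := fun p => by
    show (pX (MulAut.conj (ev g w.2)) p : ℕ) = _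
    rw [← ev_gX fun s hs => Nat.le_of_ble_eq_true (h9 s hs), pX_ev hok]
  have hwg0 : ev g w.2 * g 0 * (ev g w.2)⁻¹ = g 0 := by
    rw [← TX_p0, ← TX_piX]
    exact congrArg TX (Fin.ext ((hev p0).trans (Nat.eq_of_beq_eq_true hw0)))
  have hwg6 : ev g w.2 * g 6 * (ev g w.2)⁻¹ = TX r := by
    rw [← TX_p6, ← TX_piX]
    exact congrArg TX (Fin.ext (((hev p6).trans (Nat.eq_of_beq_eq_true hw6)).trans (Nat.eq_of_beq_eq_true hwr)))
  refine ⟨e₀.symm.trans (MulAut.conj (c * ev g w.2)⁻¹), ?_, ?_⟩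
  · show MulAut.conj (c * ev g w.2)⁻¹ (e₀.symm d₁) = _
    rw [← hc1, MulAut.conj_apply]
    calc _ = (ev g w.2)⁻¹ * g 0 * ev g w.2 := by group
      _ = g 0 := by nth_rw 1 [← hwg0]; group
  · show MulAut.conj (c * ev g w.2)⁻¹ (e₀.symm d₂) = _
    rw [show e₀.symm d₂ = c * TX r * c⁻¹ by rw [hr']; group, MulAut.conj_apply, ← hwg6]
    group

theorem congr_conj {G H : Type*} [Group G] [Group H] (e : G ≃* H) (x : G) :
    MulAut.congr e (MulAut.conj x) = MulAut.conj (e x) := by
  ext y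
  simp [MulAut.congr, MulAut.conj_apply]

theorem conclusion {G : Type*} [Group G] [Finite G] {D : Set G} (hD : Cfsg.IsThreeTranspositionGroup D)
    (hprim : Cfsg.IsPrimitiveUnderConj D) (h22 : Cfsg.IsOfTypeM22 G D) (d₁ d₂ : G) (h₁ : d₁ ∈ D) (h₂ : d₂ ∈ D)
    (hne : d₁ ≠ d₂) (hc : Commute d₁ d₂) (j : MulAut G) (hj : j = MulAut.conj (d₁ * d₂)) (R : Subgroup (MulAut G))
    (hR : R = (Cfsg.generalizedFittingSubgroup ↥(Subgroup.centralizer ({j} : Set (MulAut G)))).map
      (Subgroup.centralizer ({j} : Set (MulAut G))).subtype) : Concl j R := by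
  obtain ⟨e, he1, he2⟩ := exists_position hD hprim h22 d₁ d₂ h₁ h₂ hne hc
  refine concl_of_equiv (MulAut.congr e) j ?_ R hR
  rw [hj, congr_conj, map_mul, he1, he2, J_eq]

end Cfsg.Agent.Spor.Cos.Fi22Aut
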