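import Cfsg.Agent.Lib.Spor.Cos.Fi22Aut.Quot
import Mathlib.GroupTheory.FixedPointFree

/-!
No subgroup of odd order, other than the trivial one, is normalised by the normal 2-subgroup.
-/

set_option autoImplicit false
set_option maxRecDepth 100000
set_option maxHeartbeats 1000000

namespace Cfsg.Agent.Spor.Cos.Fi22Aut

open Cfsg.Agent.Spor.Cos.Fi22 (actB homB piB baseB g g_gen g_sq)
open Cfsg.Agent.Fus.Transp Cfsg.Agent.Fus.Fi22Out

theorem gX6_mem : gX 6 ∈ Q := by
  have h := xq_mem (i := 0) (by norm_num)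
  rwa [xq, show qgW.getD 0 [] = [6] from rfl, show ev gX [6] = gX 6 from mul_one _] at h

theorem J_gens : J = gX 0 * gX 6 := by
  show gX 0 * (gX 6 * 1) = _
  rw [mul_one]

theorem J_gens' : J = gX 6 * gX 0 := by
  have h := eq_of_agreeX (v := [0, 6]) (w := [6, 0]) (by decide +kernel)
  show gX 0 * (gX 6 * 1) = _
  exact h.trans (show gX 6 * (gX 0 * 1) = _ by rw [mul_one])

theorem gX0_mem : gX 0 ∈ Q := by
  have h : gX 0 = J * gX 6 := by rw [J_gens, mul_assoc, gX_sq, mul_one]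
  exact h ▸ mul_mem J_mem gX6_mem

theorem psi_mem : gX 9 ∈ C := by
  have h := eq_of_agreeX (v := [9, 0, 6]) (w := [0, 6, 9]) (by decide +kernel)
  simp only [ev, mul_one] at h
  exact Subgroup.mem_centralizer_singleton_iff.2 (by rw [J_gens]; simpa [mul_assoc] using h)

theorem psi_swap : gX 9 * gX 0 * gX 9 = gX 6 := by
  have h := eq_of_agreeX (v := [9, 0, 9]) (w := [6]) (by decide +kernel)
  simpa [ev, mul_assoc] using h

theorem odd_eq_one {K : Subgroup (MulAut Cfsg.Spor.Fi22)} (hK : Odd (Nat.card K)) {x : MulAut Cfsg.Spor.Fi22}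
    (hx : x ∈ K) {n : ℕ} (hn : x ^ 2 ^ n = 1) : x = 1 := by
  have hd1 : orderOf x ∣ 2 ^ n := orderOf_dvd_of_pow_eq_one hn
  have hd2 : orderOf x ∣ Nat.card K := by
    simpa using orderOf_dvd_natCard (G := K) ⟨x, hx⟩
  refine orderOf_eq_one_iff.1 (Nat.eq_one_of_dvd_coprimes ?_ hd1 hd2)
  exact Nat.Coprime.pow_left _ hK.coprime_two_left

theorem Q_inf {K : Subgroup (MulAut Cfsg.Spor.Fi22)} (hK : Odd (Nat.card K)) {x : MulAut Cfsg.Spor.Fi22}
    (hx : x ∈ K) (hq : x ∈ Q) : x = 1 := by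
  refine odd_eq_one hK hx (n := 11) ?_
  have h : (⟨x, hq⟩ : Q) ^ Nat.card Q = 1 := pow_card_eq_one'
  rw [counts.2.2.1] at h
  simpa using congrArg Subtype.val h

variable {K : Subgroup (MulAut Cfsg.Spor.Fi22)}

theorem conj_mem (hQ : Q ≤ Subgroup.normalizer (K : Set (MulAut Cfsg.Spor.Fi22))) {q k : MulAut Cfsg.Spor.Fi22}
    (hq : q ∈ Q) (hk : k ∈ K) : q * k * q⁻¹ ∈ K :=
  (Subgroup.mem_normalizer_iff.1 (hQ hq) k).1 hk

theorem fix_J (hK : Odd (Nat.card K)) (hQ : Q ≤ Subgroup.normalizer (K : Set (MulAut Cfsg.Spor.Fi22)))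
    {k : MulAut Cfsg.Spor.Fi22} (hk : k ∈ K) (hJ : k * J = J * k) : k = 1 := by
  have hkC : k ∈ C := Subgroup.mem_centralizer_singleton_iff.2 hJ
  have hc : k ∈ Subgroup.centralizer (Q : Set (MulAut Cfsg.Spor.Fi22)) := by
    refine Subgroup.mem_centralizer_iff.2 fun q hq => ?_
    have h1 : q * k * q⁻¹ * k⁻¹ ∈ K := mul_mem (conj_mem hQ hq hk) (inv_mem hk)
    have h2 : q * k * q⁻¹ * k⁻¹ ∈ Q := by
      have := mul_mem hq (Q_conj hkC (inv_mem hq))
      simpa only [mul_assoc] using this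
    exact mul_inv_eq_iff_eq_mul.1 (mul_inv_eq_one.1 (Q_inf hK h1 h2))
  obtain ⟨b, rfl⟩ := mem_centralizer_Q.1 hc
  exact Q_inf hK hk (jb_mem b)

theorem involutive_conj {q : MulAut Cfsg.Spor.Fi22} (hq : q * q = 1) (x : MulAut Cfsg.Spor.Fi22) :
    q * (q * x * q⁻¹) * q⁻¹ = x := by
  rw [inv_eq_of_mul_eq_one_right hq]
  simp only [← mul_assoc, hq, one_mul]
  rw [mul_assoc, hq, mul_one]

/-- An involution of the normal 2-subgroup without fixed points inverts. -/
theorem inverts (hQ : Q ≤ Subgroup.normalizer (K : Set (MulAut Cfsg.Spor.Fi22))) {q : MulAut Cfsg.Spor.Fi22}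
    (hq : q ∈ Q) (h2 : q * q = 1) (hf : ∀ k ∈ K, k * q = q * k → k = 1) :
    (∀ k ∈ K, q * k * q⁻¹ = k⁻¹) ∧ ∀ k ∈ K, ∀ l ∈ K, k * l = l * k := by
  have := finite_aut
  let φ : MulAut K := K.normalizerMonoidHom ⟨q, hQ hq⟩
  have hφ : ∀ k : K, ((φ k : K) : MulAut Cfsg.Spor.Fi22) = q * k * q⁻¹ := fun _ => rfl
  have hfix : MonoidHom.FixedPointFree φ := fun k h => Subtype.ext (hf k k.2 (by
    have h' : q * k.1 * q⁻¹ = k.1 := (hφ k).symm.trans (congrArg Subtype.val h)
    exact (mul_inv_eq_iff_eq_mul.1 h').symm))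
  have hinv : Function.Involutive φ := fun k => Subtype.ext (by rw [hφ, hφ]; exact involutive_conj h2 _)
  refine ⟨fun k hk => ?_, fun k hk l hl => ?_⟩
  · have := congrArg Subtype.val (congrFun (hfix.coe_eq_inv_of_involutive hinv) ⟨k, hk⟩)
    rwa [hφ] at this
  · exact congrArg Subtype.val (hfix.commute_all_of_involutive hinv ⟨k, hk⟩ ⟨l, hl⟩).eq

/-- The moving element. -/
noncomputable def qk : List ℕ := qgW.getD witK []

/-- The element of a neighbour times the second transposition. -/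
noncomputable def rW (w : List ℕ) : List ℕ := w ++ [6] ++ w.reverse ++ [6]

/-- The check of a neighbour. -/
noncomputable def chkKill (e : ℕ × List ℕ) : Bool :=
  Nat.beq (actX.im e.1 6) e.1 ||
    !(qs.all fun p => Nat.beq (actX.go (rW e.2 ++ (qk ++ rW e.2 ++ qk.reverse)) p)
      (actX.go ((qk ++ rW e.2 ++ qk.reverse) ++ rW e.2) p))

theorem kill_ok : orbW.all chkKill = true := by decide +kernel

theorem qk_ok : qk = qgW.getD witK [] ∧ witK < 10 ∧ okX qk = true ∧
    agreeX (qk ++ [6]) ([6] ++ qk) = true ∧ qs.all (fun p => Nat.blt p 3510) = true := by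
  refine ⟨rfl, ?_⟩
  decide +kernel

theorem orb_cover : ∀ r < 3510, (!(Nat.beq (actX.go [0] r) r) || Nat.beq r 0 ||
    orbW.any fun e => Nat.beq e.1 r) = true := by
  refine of_blocks (size := 512) (b := 7) (by decide) (by decide) fun j hj => ?_
  interval_cases j <;> decide +kernel

theorem fix_gX0 (hK : Odd (Nat.card K)) (hQ : Q ≤ Subgroup.normalizer (K : Set (MulAut Cfsg.Spor.Fi22)))
    {k : MulAut Cfsg.Spor.Fi22} (hk : k ∈ K) (h0 : k * gX 0 = gX 0 * k) : k = 1 := by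
  obtain ⟨hinv, habel⟩ := inverts hQ J_mem J_sq fun _ hl => fix_J hK hQ hl
  have h6 : gX 6 * k * gX 6 = k⁻¹ := by
    have h := hinv k hk
    rw [J_gens'] at h
    rw [← h, mul_inv_rev, inv_eq_of_mul_eq_one_right (gX_sq 6), inv_eq_of_mul_eq_one_right (gX_sq 0)]
    calc gX 6 * k * gX 6 = gX 6 * (k * (gX 0 * gX 0)) * gX 6 := by rw [gX_sq, mul_one]
      _ = gX 6 * (gX 0 * k * gX 0) * gX 6 := by rw [← mul_assoc k, h0]
      _ = gX 6 * gX 0 * k * (gX 0 * gX 6) := by group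
  set r := pX k p6 with hr
  have hk0 : k (g 0) = g 0 := conj_inj (by
    rw [conj_aut, ← gX_lo (s := 0) (by norm_num), h0, mul_inv_cancel_right])
  have hr0 : actX.go [0] r = r := by
    rw [← pX_ev (by decide +kernel) r, show ev gX [0] = MulAut.conj (g 0) from by
      rw [← gX_lo (s := 0) (by norm_num)]; exact mul_one _]
    refine congrArg Fin.val ((comm_TX (g 0) r).1 ?_)
    rw [hr, TX_pX, TX_p6, ← hk0, ← map_mul, ← map_mul, comm06]
  have hc := orb_cover r r.2
  simp only [Bool.or_eq_true, Bool.not_eq_true', List.any_eq_true] at hc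
  rcases hc with (h | h) | ⟨e, he, hee⟩
  · rw [hr0, Nat.beq_refl] at h; exact Bool.noConfusion h
  · exfalso
    refine p06 ((pX k).injective ?_).symm
    rw [← hr, show r = p0 from Fin.ext (Nat.eq_of_beq_eq_true h)]
    exact (TX_inj (by rw [TX_pX, TX_p0, hk0])).symm
  have her : e.1 = (r : ℕ) := Nat.eq_of_beq_eq_true hee
  have hoe := List.all_eq_true.1 orb_ok e he
  simp only [chkOrb, Bool.and_eq_true] at hoe
  obtain ⟨⟨⟨hw, -⟩, -⟩, h256⟩ := hoe
  set R := MulAut.conj (TX r) with hR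
  have hRe : R = k * gX 6 * k⁻¹ := by rw [hR, hr, TX_pX, TX_p6, conj_aut, gX_lo (s := 6) (by norm_num)]
  have hRR : R * gX 6 = k * k := by
    rw [hRe]
    calc k * gX 6 * k⁻¹ * gX 6 = k * (gX 6 * (gX 6 * k * gX 6) * gX 6) := by rw [h6]; group
      _ = k * k := by
        simp only [← mul_assoc, mul_assoc k (gX 6) (gX 6), gX_sq, mul_one]
        rw [mul_assoc, gX_sq, mul_one]
  have hwd : ev gX (e.2 ++ [6] ++ e.2.reverse) = R :=
    (conj_TX_word p6 TX_p6 (by norm_num) hw ((Nat.eq_of_beq_eq_true h256).trans her)).symm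
  have hrW : ev gX (rW e.2) = k * k := by
    rw [rW, ev_append, hwd, ← hRR]
    exact congrArg _ (mul_one _)
  have hd := List.all_eq_true.1 kill_ok e he
  simp only [chkKill, Bool.or_eq_true, Bool.not_eq_true'] at hd
  rcases hd with hd | hd
  · -- the two transpositions commute
    have hfix : piX (g 6) r = r := by
      refine Fin.ext ?_
      show (pX (MulAut.conj (g 6)) r : ℕ) = r
      rw [show MulAut.conj (g 6) = ev gX [6] from by rw [← gX_lo (s := 6) (by norm_num)]; exact (mul_one _).symm,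
        pX_ev (by decide +kernel)]
      rw [her] at hd
      rw [actX.go_cons, actX.go_nil]
      exact Nat.eq_of_beq_eq_true hd
    have hcm : gX 6 * R = R * gX 6 := by
      rw [hR, gX_lo (s := 6) (by norm_num), ← map_mul, ← map_mul, (comm_TX _ _).2 hfix]
    have hR2 : R * R = 1 := by rw [hR, ← map_mul, TX_sq, map_one]
    refine odd_eq_one hK hk (n := 2) ?_
    calc k ^ 2 ^ 2 = (k * k) * (k * k) := by rw [show 2 ^ 2 = 2 + 2 by norm_num, pow_add, sq]
      _ = R * (gX 6 * R) * gX 6 := by rw [← hRR]; group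
      _ = (R * R) * (gX 6 * gX 6) := by rw [hcm]; group
      _ = 1 := by rw [hR2, gX_sq, one_mul]
  · exfalso
    obtain ⟨-, hwk, hqok, -, hlt⟩ := qk_ok
    have hq : ev gX qk ∈ Q := xq_mem hwk
    have hm2 : ev gX (qk ++ rW e.2 ++ qk.reverse) ∈ K := by
      rw [ev_append, ev_append, ev_rev hqok, hrW]
      exact conj_mem hQ hq (mul_mem hk hk)
    have hm1 : ev gX (rW e.2) ∈ K := hrW ▸ mul_mem hk hk
    have heq : ev gX (rW e.2 ++ (qk ++ rW e.2 ++ qk.reverse)) = ev gX ((qk ++ rW e.2 ++ qk.reverse) ++ rW e.2) := by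
      rw [ev_append gX (rW e.2), ev_append gX (qk ++ rW e.2 ++ qk.reverse)]
      exact habel _ hm1 _ hm2
    have hrok : okX (rW e.2) = true := okX_append (okX_conjW hw (by norm_num)) (by decide +kernel)
    have hvok := okX_append (okX_append hqok hrok) (okX_reverse hqok)
    obtain ⟨p, hp, hne⟩ := List.all_eq_false.1 hd
    have hp' : p < actX.N := Nat.le_of_ble_eq_true (List.all_eq_true.1 hlt p hp)
    refine ne_of_go (okX_append hrok hvok) (okX_append hvok hrok) ⟨p, hp'⟩ ?_ heq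
    exact Bool.eq_false_iff.2 hne

theorem odd_bot (hK : Odd (Nat.card K)) (hQ : Q ≤ Subgroup.normalizer (K : Set (MulAut Cfsg.Spor.Fi22))) :
    K = ⊥ := by
  have := finite_aut
  have h6 : ∀ k ∈ K, k * gX 6 = gX 6 * k → k = 1 := by
    intro k hk hc
    let f : MulAut Cfsg.Spor.Fi22 →* MulAut Cfsg.Spor.Fi22 := (MulAut.conj (gX 9)).toMonoidHom
    have hpi : (gX 9)⁻¹ = gX 9 := inv_eq_of_mul_eq_one_right (gX_sq 9)
    have hK' : Odd (Nat.card (K.map f)) := by
      rwa [← Nat.card_congr (K.equivMapOfInjective f (MulAut.conj (gX 9)).injective).toEquiv]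
    have hii : ∀ x, gX 9 * (gX 9 * x * gX 9) * gX 9 = x := fun x => by
      have := involutive_conj (gX_sq 9) x
      rwa [hpi] at this
    have hfa : ∀ x, f x = gX 9 * x * gX 9 := fun x => by
      show gX 9 * x * (gX 9)⁻¹ = _
      rw [hpi]
    have key : ∀ x, x ∈ K.map f ↔ gX 9 * x * gX 9 ∈ K := fun x => by
      constructor
      · rintro ⟨y, hy, rfl⟩
        rw [hfa, hii]
        exact hy
      · intro h
        exact ⟨_, h, by rw [hfa, hii]⟩
    have hQ' : Q ≤ Subgroup.normalizer ((K.map f : Subgroup _) : Set (MulAut Cfsg.Spor.Fi22)) := by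
      intro q hq
      have hq' : gX 9 * q * (gX 9)⁻¹ ∈ Q := Q_conj psi_mem hq
      refine Subgroup.mem_normalizer_iff.2 fun x => ?_
      have key2 : gX 9 * (q * x * q⁻¹) * gX 9 =
          (gX 9 * q * (gX 9)⁻¹) * (gX 9 * x * gX 9) * (gX 9 * q * (gX 9)⁻¹)⁻¹ := by
        rw [mul_inv_rev, mul_inv_rev, inv_inv]
        calc gX 9 * (q * x * q⁻¹) * gX 9 = gX 9 * q * x * q⁻¹ * gX 9 := by group
          _ = gX 9 * q * (gX 9)⁻¹ * (gX 9 * x * (gX 9 * gX 9)) * q⁻¹ * (gX 9)⁻¹ := by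
            rw [gX_sq, hpi, mul_one]
            rw [show gX 9 * q * gX 9 * (gX 9 * x) = gX 9 * q * (gX 9 * gX 9) * x by group, gX_sq, mul_one]
          _ = _ := by group
      show x ∈ K.map f ↔ q * x * q⁻¹ ∈ K.map f
      rw [key, key, key2]
      exact Subgroup.mem_normalizer_iff.1 (hQ hq') _
    have h := fix_gX0 hK' hQ' (k := gX 9 * k * (gX 9)⁻¹) ⟨k, hk, rfl⟩ (by
      have e : gX 0 = gX 9 * gX 6 * (gX 9)⁻¹ := by
        rw [← psi_swap]
        rw [hpi, hii]
      rw [e, conj_mul, conj_mul, hc])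
    exact conj_eq_one_iff.1 h
  obtain ⟨i0, -⟩ := inverts hQ gX0_mem (gX_sq 0) fun _ hl => fix_gX0 hK hQ hl
  obtain ⟨i6, -⟩ := inverts hQ gX6_mem (gX_sq 6) h6
  rw [Subgroup.eq_bot_iff_forall]
  intro k hk
  refine fix_J hK hQ hk ?_
  have h : J * k * J⁻¹ = k := by
    rw [J_gens]
    calc gX 0 * gX 6 * k * (gX 0 * gX 6)⁻¹ = gX 0 * (gX 6 * k * (gX 6)⁻¹) * (gX 0)⁻¹ := by group
      _ = k := by rw [i6 k hk, i0 _ (inv_mem hk), inv_inv]
  exact (mul_inv_eq_iff_eq_mul.1 h).symm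

end Cfsg.Agent.Spor.Cos.Fi22Aut
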