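import Cfsg.Agent.Lib.Spor.Cos.Fi22Aut.Centre

/-!
The image on the forty sets is the automorphism group of the simple group of order 25920, and the centraliser of the
normal 2-subgroup is generated by the pair.
-/

set_option autoImplicit false
set_option maxRecDepth 100000
set_option maxHeartbeats 1000000

namespace Cfsg.Agent.Spor.Cos.Fi22Aut

open Cfsg.Agent.Spor.Cos.Fi22 (actB homB piB baseB g g_gen g_sq)
open Cfsg.Agent.Fus.Transp Cfsg.Agent.Fus.Fi22Out
open Cfsg.Agent.Fus.PSUFourTwo (pPt)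

/-- The generators by words are those of the image. -/
noncomputable def chkPt40 (i : Fin 40) : Bool :=
  ((ptIdx.getD i []).all fun a => Nat.blt a 5) &&
    (List.range 40).all fun j => Nat.beq (goT (ptIdx.getD i []) j) (pPt i (Fin.ofNat 40 j))

theorem ptIdx_ok : ∀ i, chkPt40 i = true := by decide +kernel

theorem pP_eq (i : Fin 40) : pP i = ev tN (ptIdx.getD i []) := by
  have h := ptIdx_ok i
  simp only [chkPt40, Bool.and_eq_true, List.all_eq_true] at h
  refine Equiv.ext fun j => Fin.ext ?_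
  rw [ev_tN _ (fun a ha => Nat.le_of_ble_eq_true (h.1 a ha)), pP_apply]
  have e : Fin.ofNat 40 (j : ℕ) = j := Fin.ext (Nat.mod_eq_of_lt j.2)
  have := Nat.eq_of_beq_eq_true (h.2 j (List.mem_range.2 j.2))
  rw [e] at this
  exact this.symm

theorem P40_le : P40 ≤ T5 := (Subgroup.closure_le _).2 fun _ ⟨i, e⟩ => by
  rw [← e, SetLike.mem_coe, pP_eq]; exact ev_tN_mem _

theorem conj_pPt : ∀ a i, (∀ j, tFn a (pPt i j) = pPt (tFn a i) (tFn a j)) ∨
    ∀ j, tFn a (pPt i j) = pPt (tFn a i) (pPt (tFn a i) (tFn a j)) := by decide +kernel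

theorem conj_gen (a : Fin 5) (i : Fin 40) : tP a * pP i * (tP a)⁻¹ ∈ P40 := by
  rcases conj_pPt a i with h | h
  · rw [show tP a * pP i * (tP a)⁻¹ = pP (tFn a i) from mul_inv_eq_iff_eq_mul.2 (Equiv.ext h)]
    exact pP_mem _
  · rw [show tP a * pP i * (tP a)⁻¹ = pP (tFn a i) * pP (tFn a i) from mul_inv_eq_iff_eq_mul.2 (Equiv.ext h)]
    exact mul_mem (pP_mem _) (pP_mem _)

theorem T5_normalizes : T5 ≤ Subgroup.normalizer (P40 : Set (Equiv.Perm (Fin 40))) := by
  refine (Subgroup.closure_le _).2 ?_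
  rintro _ ⟨a, rfl⟩
  have hle : P40.map (MulAut.conj (tP a)).toMonoidHom ≤ P40 := by
    rw [Subgroup.map_le_iff_le_comap, P40, Subgroup.closure_le]
    rintro _ ⟨i, rfl⟩
    exact conj_gen a i
  have heq : P40.map (MulAut.conj (tP a)).toMonoidHom = P40 := Subgroup.eq_of_le_of_card_ge hle
    (le_of_eq (Nat.card_congr (P40.equivMapOfInjective _ (MulAut.conj (tP a)).injective).toEquiv))
  refine Subgroup.mem_normalizer_iff.2 fun x => ⟨fun hx => hle ⟨x, hx, rfl⟩, fun hx => ?_⟩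
  rw [← heq] at hx
  obtain ⟨y, hy, e⟩ := hx
  obtain rfl : y = x := (MulAut.conj (tP a)).injective e
  exact hy

/-- The action of the image on the simple group. -/
noncomputable def conjP : T5 →* MulAut P40 := P40.normalizerMonoidHom.comp (Subgroup.inclusion T5_normalizes)

theorem conjP_apply (σ : T5) (p : P40) : ((conjP σ p : P40) : Equiv.Perm (Fin 40)) = σ * p * (σ.1)⁻¹ := rfl

theorem conjP_bijective : Function.Bijective conjP := by
  refine (Nat.bijective_iff_injective_and_card conjP).2 ⟨(injective_iff_map_eq_one _).2 fun σ h => Subtype.ext ?_, ?_⟩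
  · refine eq_one_of_comm fun k => ?_
    have := congrArg (fun f : MulAut P40 => ((f ⟨pP k, pP_mem k⟩ : P40) : Equiv.Perm (Fin 40))) h
    simp only [conjP_apply, MulAut.one_apply] at this
    exact mul_inv_eq_iff_eq_mul.1 this
  · rw [counts.2.2.2, card_aut_P40]

/-- A normal subgroup of the image contains the simple group or is trivial. -/
theorem normal_cases (M : Subgroup (Equiv.Perm (Fin 40))) (hM : M ≤ T5)
    (hn : ∀ t ∈ T5, ∀ m ∈ M, t * m * t⁻¹ ∈ M) : P40 ≤ M ∨ M = ⊥ := by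
  have := simple_P40
  have hN : (M.subgroupOf P40).Normal := ⟨fun x hx y => hn _ (P40_le y.2) _ hx⟩
  rcases IsSimpleGroup.eq_bot_or_eq_top_of_normal _ hN with h | h
  · right
    rw [Subgroup.eq_bot_iff_forall]
    intro m hm
    refine eq_one_of_comm fun k => ?_
    have h1 : m * pP k * m⁻¹ * (pP k)⁻¹ ∈ P40 :=
      mul_mem ((Subgroup.mem_normalizer_iff.1 (T5_normalizes (hM hm)) _).1 (pP_mem k)) (inv_mem (pP_mem k))
    have h2 : m * pP k * m⁻¹ * (pP k)⁻¹ ∈ M := by
      have := mul_mem hm (hn _ (P40_le (pP_mem k)) _ (inv_mem hm))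
      simpa only [mul_assoc] using this
    have h3 : (⟨_, h1⟩ : P40) ∈ M.subgroupOf P40 := h2
    rw [h, Subgroup.mem_bot] at h3
    exact mul_inv_eq_iff_eq_mul.1 (mul_inv_eq_one.1 (congrArg Subtype.val h3))
  · exact Or.inl (Subgroup.subgroupOf_eq_top.1 h)

/-- A normal 2-subgroup of the image is trivial. -/
theorem no_two (M : Subgroup (Equiv.Perm (Fin 40))) (hM : M ≤ T5) (hn : ∀ t ∈ T5, ∀ m ∈ M, t * m * t⁻¹ ∈ M)
    (h2 : IsPGroup 2 M) : M = ⊥ := by
  haveI : Fact (Nat.Prime 2) := ⟨Nat.prime_two⟩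
  refine (normal_cases M hM hn).resolve_left fun h => ?_
  obtain ⟨k, hk⟩ := IsPGroup.iff_card.1 h2
  have hd := Subgroup.card_dvd_of_le h
  rw [card_P40, hk] at hd
  have h5 : 5 ∣ 2 ^ k := (by norm_num : 5 ∣ 25920).trans hd
  exact absurd ((Nat.prime_dvd_prime_iff_eq (by norm_num) Nat.prime_two).1
    ((by norm_num : Nat.Prime 5).dvd_of_dvd_pow h5)) (by norm_num)

theorem C_le_H : C ≤ H := counts.1.ge

/-- The action of the centraliser on the forty sets. -/
noncomputable def rhoC : C →* Equiv.Perm (Fin 40) := rhoH.comp (Subgroup.inclusion C_le_H)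

theorem range_rhoC : rhoC.range = T5 := by
  refine le_antisymm ?_ ?_ <;> rw [← range_rhoH]
  · rintro _ ⟨x, rfl⟩; exact ⟨_, rfl⟩
  · rintro _ ⟨x, rfl⟩; exact ⟨⟨x, H_le x.2⟩, rfl⟩

theorem mem_ker_rhoC {x : C} : rhoC x = 1 ↔ (x : MulAut Cfsg.Spor.Fi22) ∈ Q := by
  show Subgroup.inclusion C_le_H x ∈ rhoH.ker ↔ _
  rw [← counts.2.1]
  rfl

theorem Q_conj {c y : MulAut Cfsg.Spor.Fi22} (hc : c ∈ C) (hy : y ∈ Q) : c * y * c⁻¹ ∈ Q := by
  have h : rhoC (⟨c, hc⟩ * ⟨y, Q_le hy⟩ * ⟨c, hc⟩⁻¹) = 1 := by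
    rw [map_mul, map_mul, map_inv, (mem_ker_rhoC (x := ⟨y, Q_le hy⟩)).2 hy, mul_one, mul_inv_cancel]
  exact mem_ker_rhoC.1 h

theorem witI_ok : ∀ j, tFn 0 j = pPt (Fin.ofNat 40 (witI.getD 0 0))
    (pPt (Fin.ofNat 40 (witI.getD 1 0)) (pPt (Fin.ofNat 40 (witI.getD 2 0)) j)) := by decide +kernel

theorem tP_zero : tP 0 ∈ P40 := by
  rw [show tP 0 = pP (Fin.ofNat 40 (witI.getD 0 0)) * (pP (Fin.ofNat 40 (witI.getD 1 0)) *
    pP (Fin.ofNat 40 (witI.getD 2 0))) from Equiv.ext witI_ok]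
  exact mul_mem (pP_mem _) (mul_mem (pP_mem _) (pP_mem _))

/-- The word whose action is not trivial. -/
noncomputable def chkW : Bool :=
  okX (topW.getD witW.1 []) && Nat.blt witW.2 10 && okX (qgW.getD witW.2 []) &&
    (qs.any fun p => Nat.blt p 3510 && !(Nat.beq
      (actX.go (topW.getD witW.1 [] ++ qgW.getD witW.2 [] ++ (topW.getD witW.1 []).reverse) p)
      (actX.go (qgW.getD witW.2 []) p))) &&
    (qs.any fun p => Nat.blt p 3510 && !(Nat.beq
      (actX.go (topW.getD witW.1 [] ++ qgW.getD witW.2 [] ++ (topW.getD witW.1 []).reverse) p)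
      (actX.go ([0, 6] ++ qgW.getD witW.2 []) p)))

theorem chkW_ok : chkW = true ∧ witW.1 = 0 := by decide +kernel

theorem top_acts : ∀ b, ev gX (topW.getD 0 []) * xq witW.2 * (ev gX (topW.getD 0 []))⁻¹ ≠ jb b * xq witW.2 := by
  have h := chkW_ok.1
  simp only [chkW, chkW_ok.2, Bool.and_eq_true, List.any_eq_true, Bool.not_eq_true'] at h
  obtain ⟨⟨⟨⟨hw, -⟩, hx⟩, p, -, hp, h1⟩, r, -, hr, h2⟩ := h
  have hv := okX_append (okX_append hw hx) (okX_reverse hw)
  have e : ev gX (topW.getD 0 [] ++ qgW.getD witW.2 [] ++ (topW.getD 0 []).reverse) =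
      ev gX (topW.getD 0 []) * xq witW.2 * (ev gX (topW.getD 0 []))⁻¹ := by
    rw [ev_append, ev_append, ev_rev hw]; rfl
  intro b
  cases b
  · rw [← e]
    show _ ≠ 1 * xq witW.2
    rw [one_mul]
    exact ne_of_go hv hx ⟨p, Nat.le_of_ble_eq_true hp⟩ h1
  · rw [← e]
    have := ne_of_go hv (okX_append (v := [0, 6]) (by decide +kernel) hx) ⟨r, Nat.le_of_ble_eq_true hr⟩ h2
    rw [ev_append] at this
    exact this

theorem exists_sign {y : MulAut Cfsg.Spor.Fi22} (hy : y ∈ Q) {k : ℕ} (hk : k < 10) :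
    ∃ b, y * xq k = jb b * (xq k * y) := by
  obtain ⟨p, hp⟩ := qEl_surjective ⟨y, hy⟩
  have := congrArg Subtype.val hp
  exact ⟨_, this ▸ qEl_comm p hk⟩

theorem idx_zero : idx 0 = [] := by decide +kernel

theorem central_Q {y : MulAut Cfsg.Spor.Fi22} (hy : y ∈ Q) (h : ∀ k < 10, y * xq k = xq k * y) : ∃ b, y = jb b := by
  obtain ⟨p, hp⟩ := qEl_surjective ⟨y, hy⟩
  have hv : (qEl p : MulAut Cfsg.Spor.Fi22) = y := congrArg Subtype.val hp
  have hs : ∀ k < 10, sgnK (idx p.1) k = sgnK (idx 0) k := fun k hk => by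
    have h1 := qEl_comm p hk
    rw [hv, h k hk] at h1
    have h2 : jb (sgnK (idx p.1) k) = jb false := (mul_eq_right.1 h1.symm).trans rfl
    rw [jb_inj h2]
    rw [idx_zero]
    rfl
  have e0 : (p.1 : ℕ) = 0 := code_eq p.1.2 (by norm_num) hs
  refine ⟨p.2, hv.symm.trans ?_⟩
  show xprod (idx p.1) * jb p.2 = jb p.2
  rw [e0, idx_zero]
  exact one_mul _

theorem mem_centralizer_Q {y : MulAut Cfsg.Spor.Fi22} :
    y ∈ Subgroup.centralizer (Q : Set (MulAut Cfsg.Spor.Fi22)) ↔ ∃ b, y = jb b := by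
  constructor
  · intro hy
    have hcm : ∀ q ∈ Q, y * q = q * y := fun q hq => (Subgroup.mem_centralizer_iff.1 hy q hq).symm
    have hyC : y ∈ C := Subgroup.mem_centralizer_singleton_iff.2 (hcm J J_mem)
    let Y : Subgroup C := (Subgroup.centralizer (Q : Set (MulAut Cfsg.Spor.Fi22))).subgroupOf C
    have hY : (Y.map rhoC) = ⊥ := by
      refine (normal_cases _ (by rw [← range_rhoC]; exact Subgroup.map_le_range _ _) ?_).resolve_left ?_
      · intro t ht m hm
        obtain ⟨c, rfl⟩ : t ∈ rhoC.range := range_rhoC.symm ▸ ht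
        obtain ⟨z, hz, rfl⟩ := hm
        refine ⟨c * z * c⁻¹, ?_, by rw [map_mul, map_mul, map_inv]⟩
        show _ ∈ Subgroup.centralizer _
        rw [Subgroup.mem_centralizer_iff]
        intro q hq
        have hq' : (c.1)⁻¹ * q * c.1 ∈ Q := by simpa using Q_conj (C.inv_mem c.2) hq
        have := Subgroup.mem_centralizer_iff.1 (show (z : MulAut Cfsg.Spor.Fi22) ∈ Subgroup.centralizer _ from hz) _ hq'
        calc q * (c.1 * z.1 * c.1⁻¹) = c.1 * ((c.1⁻¹ * q * c.1) * z.1) * c.1⁻¹ := by group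
          _ = c.1 * z.1 * c.1⁻¹ * q := by rw [this]; group
      · intro hle
        obtain ⟨z, hz, hz'⟩ := hle tP_zero
        have hw : ev gX (topW.getD 0 []) ∈ C := H_le (mem_val (List.mem_append_right _ (by
          rw [List.getD_eq_getElem _ _ (topW_length.symm ▸ (by norm_num : 0 < 5))]; exact List.getElem_mem _)))
        have hw' : rhoC ⟨_, hw⟩ = tP 0 := rhoH_eq _ (top_mem 0)
        have hq : (z.1)⁻¹ * ev gX (topW.getD 0 []) ∈ Q := by
          refine (mem_ker_rhoC (x := z⁻¹ * ⟨_, hw⟩)).1 ?_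
          rw [map_mul, map_inv, hz', hw', inv_mul_cancel]
        have hk : witW.2 < 10 := by decide +kernel
        obtain ⟨b, hb⟩ := exists_sign hq hk
        have hzc := Subgroup.mem_centralizer_iff.1 (show (z : MulAut Cfsg.Spor.Fi22) ∈ Subgroup.centralizer _ from hz) _
          (xq_mem hk)
        refine top_acts b ?_
        rw [mul_inv_eq_iff_eq_mul]
        calc ev gX (topW.getD 0 []) * xq witW.2 = z.1 * ((z.1)⁻¹ * ev gX (topW.getD 0 []) * xq witW.2) := by group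
          _ = jb b * (z.1 * xq witW.2) * (z.1)⁻¹ * ev gX (topW.getD 0 []) := by
            rw [hb, ← mul_assoc, jb_comm z.2 b]; group
          _ = jb b * xq witW.2 * ev gX (topW.getD 0 []) := by rw [← hzc]; group
    have hyQ : y ∈ Q := by
      refine (mem_ker_rhoC (x := ⟨y, hyC⟩)).1 ?_
      rw [← Subgroup.mem_bot, ← hY]
      exact Subgroup.mem_map_of_mem rhoC (show (⟨y, hyC⟩ : C) ∈ Y from hy)
    exact central_Q hyQ fun k hk => hcm _ (xq_mem hk)
  · rintro ⟨b, rfl⟩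
    exact Subgroup.mem_centralizer_iff.2 fun q hq => jb_comm (Q_le hq) b

theorem sign_any {y z : MulAut Cfsg.Spor.Fi22} (hy : y ∈ Q) (hz : z ∈ Q) : ∃ b, y * z = jb b * (z * y) := by
  induction hz using Subgroup.closure_induction with
  | mem x hx =>
    obtain ⟨w, hw, rfl⟩ := hx
    obtain ⟨i, hi, rfl⟩ := List.getElem_of_mem hw
    obtain ⟨b, hb⟩ := exists_sign hy (k := i) (qgW_length ▸ hi)
    exact ⟨b, by rwa [xq, List.getD_eq_getElem _ _ hi] at hb⟩
  | one => exact ⟨false, by simp [jb]⟩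
  | mul u v hu hv ha hb =>
    obtain ⟨a, ha⟩ := ha
    obtain ⟨b, hb⟩ := hb
    refine ⟨a ^^ b, ?_⟩
    rw [← mul_assoc, ha, mul_assoc (jb a), mul_assoc u y v, hb, ← mul_assoc u (jb b),
      jb_comm (Q_le (show u ∈ Q from hu)) b, ← jb_mul a b]
    simp only [mul_assoc]
  | inv u hu ha =>
    obtain ⟨a, ha⟩ := ha
    refine ⟨a, ?_⟩
    have hc := jb_comm (Q_le (show u ∈ Q from hu)) a
    calc y * u⁻¹ = u⁻¹ * (u * y) * u⁻¹ := by group
      _ = u⁻¹ * (jb a * (y * u)) * u⁻¹ := by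
        rw [ha, ← mul_assoc (jb a), jb_mul, Bool.xor_self]
        simp [jb]
      _ = jb a * (u⁻¹ * y) := by
        rw [← mul_assoc u⁻¹, show u⁻¹ * jb a = jb a * u⁻¹ by
          rw [eq_mul_inv_iff_mul_eq, mul_assoc, ← hc, inv_mul_cancel_left]]
        group

theorem sq_Q {y : MulAut Cfsg.Spor.Fi22} (hy : y ∈ Q) : ∃ b, y * y = jb b := by
  induction hy using Subgroup.closure_induction with
  | mem x hx =>
    obtain ⟨w, hw, rfl⟩ := hx
    exact ⟨false, by
      have h := eq_of_agreeX (List.all_eq_true.1 sq_ok w hw)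
      rwa [ev_append] at h⟩
  | one => exact ⟨false, by simp [jb]⟩
  | mul u v hu hv ha hb =>
    obtain ⟨a, ha⟩ := ha
    obtain ⟨b, hb⟩ := hb
    obtain ⟨c, hc⟩ := sign_any (show v ∈ Q from hv) (show u ∈ Q from hu)
    refine ⟨c ^^ (a ^^ b), ?_⟩
    rw [← jb_mul, ← jb_mul, ← ha, ← hb]
    calc u * v * (u * v) = u * (v * u) * v := by group
      _ = u * jb c * (u * v) * v := by rw [hc]; group
      _ = jb c * (u * u * (v * v)) := by rw [jb_comm (Q_le (show u ∈ Q from hu)) c]; group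
  | inv u hu ha =>
    obtain ⟨a, ha⟩ := ha
    refine ⟨a, ?_⟩
    rw [← mul_inv_rev, ha]
    cases a
    · exact inv_one
    · exact inv_eq_of_mul_eq_one_right J_sq

end Cfsg.Agent.Spor.Cos.Fi22Aut
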