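import Cfsg.Agent.Lib.Spor.Cos.Fi22Aut.Table
import Cfsg.Agent.Lib.Fus.Fi22Out.Main

/-!
The automorphisms of the presented Fischer group as permutations of its transpositions.
-/

set_option autoImplicit false
set_option maxRecDepth 100000
set_option maxHeartbeats 1000000

namespace Cfsg.Agent.Spor.Cos.Fi22Aut

open Cfsg.Agent.Spor.Cos.Fi22 (actB homB piB baseB g g_gen g_sq)
open Cfsg.Agent.Fus.Transp Cfsg.Agent.Fus.Fi22Out

/-- The permutation of the generators. -/
def sigL : List ℕ := [6, 5, 4, 3, 2, 1, 0, 7, 8]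

theorem table_ok : ∀ p < 3510, ((List.range 9).all fun s => Nat.beq (actX.im p s) (actB.im p s)) = true := by
  refine of_blocks (size := 512) (b := 7) (by decide) (by decide) fun j hj => ?_
  interval_cases j <;> decide +kernel

theorem sig_ok : ∀ p < 3510, ((List.range 9).all fun s =>
    Nat.beq (actX.im (actB.im p s) 9) (actB.im (actX.im p 9) (sigL.getD s 0))) = true := by
  refine of_blocks (size := 512) (b := 7) (by decide) (by decide) fun j hj => ?_
  interval_cases j <;> decide +kernel

theorem inv_ok : ∀ p < actX.N, actX.chkInv p = true := by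
  refine of_blocks (size := 512) (b := 7) (by decide) (by decide) fun j hj => ?_
  interval_cases j <;> decide +kernel

theorem sig_base : actX.im 0 9 = qs.getD 6 0 := by decide +kernel

theorem act_N : actX.N = actB.N := rfl

theorem exists_graphAut : ∃ ψ : MulAut Cfsg.Spor.Fi22,
    (∀ s < 9, ψ (g s) = g (sigL.getD s 0)) ∧ ψ * ψ = 1 := by
  obtain ⟨f, hf⟩ := exists_graph
  have hlt : ∀ s < 9, sigL.getD s 0 < 9 := by decide
  have hinv : ∀ s < 9, sigL.getD (sigL.getD s 0) 0 = s := by decide
  have hff : f.comp f = MonoidHom.id _ := by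
    refine MonoidHom.eq_of_eqOn_dense g_gen ?_
    rintro _ ⟨s, hs, rfl⟩
    rw [MonoidHom.comp_apply, hf s hs]
    show f (g (sigL.getD s 0)) = g s
    rw [hf _ (hlt s hs)]
    exact congrArg g (hinv s hs)
  exact ⟨f.toMulEquiv f hff hff, hf, MulEquiv.ext fun x => DFunLike.congr_fun hff x⟩

/-- The graph automorphism. -/
noncomputable def psi : MulAut Cfsg.Spor.Fi22 := exists_graphAut.choose

theorem psi_g : ∀ s < 9, psi (g s) = g (sigL.getD s 0) := exists_graphAut.choose_spec.1

theorem psi_sq : psi * psi = 1 := exists_graphAut.choose_spec.2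

theorem cls_any (φ : MulAut Cfsg.Spor.Fi22) (p : Fin actB.N) : IsConj (ev g tw) (φ (setup.T p)) :=
  (tz_class φ).trans (φ.toMonoidHom.map_isConj (setup.isConj_T p))

/-- The point of the image of a transposition. -/
noncomputable def pmap (φ : MulAut Cfsg.Spor.Fi22) (p : Fin actB.N) : Fin actB.N :=
  (setup.exists_T (cls_any φ p)).choose

theorem T_pmap (φ : MulAut Cfsg.Spor.Fi22) (p : Fin actB.N) : setup.T (pmap φ p) = φ (setup.T p) :=
  (setup.exists_T (cls_any φ p)).choose_spec

theorem pmap_one (p : Fin actB.N) : pmap 1 p = p :=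
  setup.T_inj (by rw [T_pmap, MulAut.one_apply])

theorem pmap_mul (φ χ : MulAut Cfsg.Spor.Fi22) (p : Fin actB.N) : pmap (φ * χ) p = pmap φ (pmap χ p) :=
  setup.T_inj (by rw [T_pmap, T_pmap, T_pmap, MulAut.mul_apply])

/-- The automorphisms as permutations. -/
noncomputable def pA : MulAut Cfsg.Spor.Fi22 →* Equiv.Perm (Fin actB.N) where
  toFun φ := ⟨pmap φ, pmap φ⁻¹, fun p => by rw [← pmap_mul, inv_mul_cancel, pmap_one],
    fun p => by rw [← pmap_mul, mul_inv_cancel, pmap_one]⟩
  map_one' := Equiv.ext pmap_one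
  map_mul' φ χ := Equiv.ext (pmap_mul φ χ)

theorem pA_apply (φ : MulAut Cfsg.Spor.Fi22) (p : Fin actB.N) : pA φ p = pmap φ p := rfl

theorem T_pA (φ : MulAut Cfsg.Spor.Fi22) (p : Fin actB.N) : setup.T (pA φ p) = φ (setup.T p) := T_pmap φ p

theorem pA_conj (y : Cfsg.Spor.Fi22) : pA (MulAut.conj y) = piB y := by
  refine Equiv.ext fun p => setup.T_inj ?_
  rw [T_pA, MulAut.conj_apply, setup.T_apply]

theorem pA_injective : Function.Injective pA := by
  intro φ χ h
  refine ext_gen g_gen fun s hs => ?_
  rw [← setup.T_q hs, ← T_pA, ← T_pA, h]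

/-- The letters of the automorphism group. -/
noncomputable def gX (s : ℕ) : MulAut Cfsg.Spor.Fi22 :=
  if s < 9 then MulAut.conj (g s) else if s = 9 then psi else 1

theorem gX_lo {s : ℕ} (hs : s < 9) : gX s = MulAut.conj (g s) := if_pos hs

theorem gX_nine : gX 9 = psi := rfl

theorem gX_sq : ∀ s, gX s * gX s = 1 := fun s => by
  unfold gX
  split_ifs
  · rw [← map_mul, g_sq, map_one]
  · exact psi_sq
  · exact one_mul _

theorem pA_psi (p : Fin actB.N) : (pA psi p : ℕ) = actX.im p 9 := by
  have key : ∀ y : Cfsg.Spor.Fi22, ∀ r : Fin actB.N, (pA psi r : ℕ) = actX.im r 9 →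
      (pA psi (piB y r) : ℕ) = actX.im (piB y r) 9 := by
    intro y
    have hy : y ∈ Subgroup.closure {x | ∃ s < 9, g s = x} := g_gen ▸ Subgroup.mem_top y
    induction hy using Subgroup.closure_induction with
    | mem x hx =>
      obtain ⟨s, hs, rfl⟩ := hx
      intro r hr
      have e1 : pA psi (piB (g s) r) = piB (g (sigL.getD s 0)) (pA psi r) := by
        rw [← psi_g s hs, ← pA_conj, ← pA_conj, ← Equiv.Perm.mul_apply, ← Equiv.Perm.mul_apply, ← map_mul,
          ← map_mul]
        congr 2
        ext x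
        simp [MulAut.mul_apply, MulAut.conj_apply]
      have h2 := List.all_eq_true.1 (sig_ok r r.2) s (List.mem_range.2 hs)
      have hb : ∀ t < 9, ∀ q : Fin actB.N, (piB (g t) q : ℕ) = actB.im q t := fun t ht q => by
        rw [homB.gen t, actB.perm_apply homB.inv ht]
      rw [e1, hb _ ((show ∀ t < 9, sigL.getD t 0 < 9 by decide) s hs), hr, hb s hs]
      exact (Nat.eq_of_beq_eq_true h2).symm
    | one => intro r hr; rwa [map_one, Equiv.Perm.one_apply]
    | mul a b _ _ ha hb => intro r hr; rw [map_mul, Equiv.Perm.mul_apply]; exact ha _ (hb r hr)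
    | inv a _ ha =>
      intro r hr
      have hiter : ∀ k : ℕ, (pA psi ((piB a ^ k) r) : ℕ) = actX.im ((piB a ^ k) r) 9 := by
        intro k
        induction k with
        | zero => simpa using hr
        | succ k ih => rw [pow_succ', Equiv.Perm.mul_apply]; exact ha _ ih
      rw [map_inv, inv_eq_of_mul_eq_one_right (b := piB a ^ (orderOf (piB a) - 1)) (by
        rw [← pow_succ', Nat.sub_add_cancel (orderOf_pos _), pow_orderOf_eq_one])]
      exact hiter _
  obtain ⟨y, rfl⟩ := setup.tr p
  refine key y baseB ?_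
  have e : setup.T baseB = g 0 := by
    rw [setup.T_of_apply (y := 1) (by rw [map_one, Equiv.Perm.one_apply])]
    simp [tw, ev]
  have h6 : pA psi baseB = ⟨qs.getD 6 0, setup.q_lt (s := 6) (by decide)⟩ := by
    refine setup.T_inj ?_
    rw [T_pA, e, setup.T_q (s := 6) (by decide), psi_g 0 (by decide)]
    rfl
  rw [h6]
  exact sig_base.symm

/-- The automorphisms as permutations of the points of the table. -/
noncomputable def pX : MulAut Cfsg.Spor.Fi22 →* Equiv.Perm (Fin actX.N) := pA

theorem pX_injective : Function.Injective pX := pA_injective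

theorem homX : actX.Hom gX pX := by
  refine ⟨inv_ok, fun s => Equiv.ext fun p => ?_⟩
  show pA (gX s) p = _
  by_cases hs : s < 9
  · refine Fin.ext ?_
    rw [gX_lo hs, pA_conj, homB.gen]
    exact ((actB.perm_apply homB.inv (s := s) hs p).trans
      (Nat.eq_of_beq_eq_true (List.all_eq_true.1 (table_ok p p.2) s (List.mem_range.2 hs))).symm).trans
      (actX.perm_apply inv_ok (s := s) (show s < 10 by omega) p).symm
  by_cases h9 : s = 9
  · subst h9
    refine Fin.ext ?_
    rw [gX_nine]
    exact (pA_psi p).trans (actX.perm_apply inv_ok (s := 9) (by decide) p).symm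
  · rw [actX.perm_out s (show 10 ≤ s by omega)]
    rw [show gX s = 1 from by unfold gX; rw [if_neg hs, if_neg h9], map_one]
    rfl

theorem aut_cases (φ : MulAut Cfsg.Spor.Fi22) : ∃ c, φ = MulAut.conj c ∨ φ = MulAut.conj c * psi := by
  obtain ⟨c, σ, hσ, hc⟩ := Cfsg.Agent.Fus.Fi22Out.good φ
  refine ⟨c, ?_⟩
  simp only [sigs, List.mem_cons, List.not_mem_nil, or_false] at hσ
  rcases hσ with rfl | rfl
  · exact Or.inl (ext_gen g_gen fun s hs => by rw [hc s hs, getD_range hs, MulAut.conj_apply])
  · exact Or.inr (ext_gen g_gen fun s hs => by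
      rw [hc s hs, MulAut.mul_apply, psi_g s hs, MulAut.conj_apply]; rfl)

end Cfsg.Agent.Spor.Cos.Fi22Aut
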