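import Cfsg.Agent.Lib.Spor.Cos.Fi22Aut.Setting
import Cfsg.Agent.Lib.Spor.Cos.Fi22Aut.Data
import Cfsg.Agent.Lib.Spor.Cos.Fi22Aut.Image

/-!
Counting with stabilisers, and equalities in the automorphism group from the table.
-/

set_option autoImplicit false
set_option maxRecDepth 100000
set_option maxHeartbeats 1000000

namespace Cfsg.Agent.Spor.Cos.Fi22Aut

open Cfsg.Agent.Spor.Cos.Fi22 (actB homB piB baseB g g_gen g_sq)
open Cfsg.Agent.Fus.Transp Cfsg.Agent.Fus.Fi22Out

section Count

variable {G X : Type*} [Group G]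

/-- The stabiliser of a point. -/
def stabP (π : G →* Equiv.Perm X) (b : X) : Subgroup G where
  carrier := {y | π y b = b}
  one_mem' := by simp
  mul_mem' {x y} hx hy := by
    simp only [Set.mem_setOf_eq, map_mul, Equiv.Perm.mul_apply] at hx hy ⊢
    rw [hy, hx]
  inv_mem' {x} hx := by
    simp only [Set.mem_setOf_eq, map_inv] at hx ⊢
    rw [Equiv.Perm.inv_eq_iff_eq, hx]

theorem mem_stabP {π : G →* Equiv.Perm X} {b : X} {y : G} : y ∈ stabP π b ↔ π y b = b := Iff.rfl

theorem card_step [Finite G] (π : G →* Equiv.Perm X) (K : Subgroup G) (b : X) (ys : List G)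
    (hy : ∀ y ∈ ys, y ∈ K) (hd : (ys.map fun y => π y b).Nodup) :
    ys.length * Nat.card ↥(K ⊓ stabP π b) ≤ Nat.card K := by
  let f : Fin ys.length × ↥(K ⊓ stabP π b) → K := fun p =>
    ⟨ys.get p.1 * p.2.1, mul_mem (hy _ (List.get_mem _ _)) p.2.2.1⟩
  have hf : Function.Injective f := by
    rintro ⟨i, x⟩ ⟨j, y⟩ e
    have e' : ys.get i * (x : G) = ys.get j * (y : G) := congrArg Subtype.val e
    have hb : π (ys.get i) b = π (ys.get j) b := by
      have h := congrArg (fun z => π z b) e'
      simpa only [map_mul, Equiv.Perm.mul_apply, (mem_stabP.1 x.2.2), (mem_stabP.1 y.2.2)] using h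
    have hij : i = j := by
      have := (List.nodup_iff_injective_get.1 hd) (a₁ := ⟨i, by simp⟩) (a₂ := ⟨j, by simp⟩)
        (by simpa [List.get_eq_getElem] using hb)
      exact Fin.ext (by simpa using congrArg Fin.val this)
    subst hij
    exact Prod.ext rfl (Subtype.ext (mul_left_cancel e'))
  have := Nat.card_le_card_of_injective f hf
  rwa [Nat.card_prod, Nat.card_fin] at this

end Count

/-- The letters are those of the table. -/
noncomputable def okX (w : List ℕ) : Bool := w.all fun s => Nat.blt s 10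

theorem lt_of_okX {w : List ℕ} (h : okX w = true) : ∀ s ∈ w, s < actX.n := fun s hs =>
  Nat.le_of_ble_eq_true (List.all_eq_true.1 h s hs)

theorem pX_ev {w : List ℕ} (h : okX w = true) (p : Fin actX.N) : (pX (ev gX w) p : ℕ) = actX.go w p :=
  homX.apply_ev w (lt_of_okX h) p

/-- Two words agree on the nine points. -/
noncomputable def agreeX (v w : List ℕ) : Bool :=
  okX v && okX w && qs.all fun p => Nat.beq (actX.go v p) (actX.go w p)

theorem eq_of_agreeX {v w : List ℕ} (h : agreeX v w = true) : ev gX v = ev gX w := by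
  simp only [agreeX, Bool.and_eq_true, List.all_eq_true] at h
  obtain ⟨⟨hv, hw⟩, hq⟩ := h
  refine ext_gen g_gen fun s hs => ?_
  have hs' : s < actB.n := hs
  have hmem : qs.getD s 0 ∈ qs := by
    have hlen : s < qs.length := setup.qlen.symm ▸ hs'
    rw [List.getD_eq_getElem _ _ hlen]
    exact List.getElem_mem hlen
  rw [← setup.T_q hs', ← T_pA, ← T_pA]
  refine congrArg setup.T (Fin.ext ?_)
  exact ((pX_ev hv ⟨qs.getD s 0, setup.q_lt hs'⟩).trans (Nat.eq_of_beq_eq_true (hq _ hmem))).trans
    (pX_ev hw ⟨qs.getD s 0, setup.q_lt hs'⟩).symm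

theorem ne_of_go {v w : List ℕ} (hv : okX v = true) (hw : okX w = true) (p : Fin actX.N)
    (h : Nat.beq (actX.go v p) (actX.go w p) = false) : ev gX v ≠ ev gX w := fun e => by
  have := congrArg (fun y => (pX y p : ℕ)) e
  simp only [pX_ev hv, pX_ev hw] at this
  rw [this, Nat.beq_refl] at h
  exact Bool.noConfusion h

theorem okX_append {v w : List ℕ} (hv : okX v = true) (hw : okX w = true) : okX (v ++ w) = true := by
  simp only [okX, List.all_append, Bool.and_eq_true]
  exact ⟨hv, hw⟩

theorem okX_reverse {w : List ℕ} (h : okX w = true) : okX w.reverse = true := by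
  simpa only [okX, List.all_reverse] using h

theorem ev_rev {w : List ℕ} (h : okX w = true) : ev gX w.reverse = (ev gX w)⁻¹ :=
  ev_reverse (fun t _ => gX_sq t) _ (lt_of_okX h)

end Cfsg.Agent.Spor.Cos.Fi22Aut
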